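import Cfsg.Agent.Fi22PairAut.Data

/-!
Kernel checks for the outer involution interchanging two commuting transpositions of `Fi₂₂`.
-/

set_option autoImplicit false
set_option maxRecDepth 100000

namespace CfsgLib.Fi22PairAut

open CfsgLib.CosetEnum CfsgLib.Fi22Out

noncomputable section

/-- The class of a point. -/
def cls (i : ℕ) : ℕ := ext clsT i

/-- Two classes commute. -/
def adj (a b : ℕ) : Bool := Nat.beq (ext adjT (Nat.add (Nat.mul 45 a) b)) 1

/-- The image of a point under the chosen outer automorphism. -/
def al (i : ℕ) : ℕ := walk tbq (pw i) 0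

/-- The image of a point under the outer involution. -/
def qpt (i : ℕ) : ℕ := force (al i) fun a => force (mv 3 a) fun b => mv 2 b

/-- The image of a point under a product of transpositions. -/
def ept : List ℕ → ℕ → ℕ
  | [], i => i
  | p :: w, i => force (ept w i) fun x => mv p x

/-- Membership of the classes. -/
def memOK (i : ℕ) : Bool :=
  bif Nat.blt i 3510 then
    (com 0 i && com 6 i && !(Nat.beq i 0) && !(Nat.beq i 6)) == Nat.blt (cls i) 45 &&
      (!(Nat.blt (cls i) 45) || pts.any (Nat.beq i))
  else true

/-- The adjacency of two points is that of their classes. -/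
def rowOK (x : ℕ) : Bool :=
  force (cls x) fun c => pts.all fun y => com x y == adj c (cls y)

/-- A map keeps the classes. -/
def keepsOK (f : ℕ → ℕ) : Bool := pts.all fun x => Nat.beq (cls (f x)) (cls x)

/-- Two products of transpositions agree on the nine points. -/
def sameOK (v w : List ℕ) : Bool := Fi22Out.gpt.all fun i => Nat.beq (ept v i) (ept w i)

/-- The commutator pattern of the generators. -/
def pairOK (k l : ℕ) : Bool :=
  sameOK (eW.getD k [] ++ eW.getD l [] ++ eW.getD k [] ++ eW.getD l [])
    (bif Nat.beq l (bif Nat.beq (k % 2) 0 then k + 1 else k - 1) then [0, 6] else [])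

theorem mem_ok : allR memOK 12 0 = true := by decide +kernel

theorem row_ok : pts.all rowOK = true := by decide +kernel

theorem q_small : qpt 0 = 6 ∧ qpt 6 = 0 ∧ (Fi22Out.gpt.all fun i => Nat.beq (qpt (qpt i)) i) = true := by
  decide +kernel

theorem q_keeps : keepsOK qpt = true := by decide +kernel

theorem e_keeps : (eW.all fun w => keepsOK (ept w)) = true := by decide +kernel

theorem e_small : eW.length = 8 ∧ (eW.all fun w =>
    w.all (fun p => Nat.blt p 3510) && Nat.beq (ept w 0) 0 && Nat.beq (ept w 6) 6 &&
      sameOK (w.map qpt) w) = true := by decide +kernel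

theorem e_sq_ok : (eW.all fun w => sameOK (w ++ w) []) = true := by decide +kernel

theorem pair_ok : ((List.range 8).all fun k => (List.range 8).all fun l => pairOK k l) = true := by decide +kernel

theorem wit_ok : (com 0 wit.1 && com 6 wit.1 && com 0 wit.2.1 && com 6 wit.2.1 &&
    Nat.blt wit.1 3510 && Nat.blt wit.2.1 3510 && Nat.blt wit.2.2 3510 && Nat.blt (cls wit.2.2) 45 &&
    !(Nat.beq (cls (ept [wit.1, wit.2.1] wit.2.2)) (cls wit.2.2)) &&
    sameOK [wit.1, wit.2.1, wit.1, wit.2.1, wit.1, wit.2.1] []) = true := by decide +kernel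

theorem wit_sep : (pts.any fun y => !(com (ept [wit.1, wit.2.1] wit.2.2) y == com wit.2.2 y)) = true := by
  decide +kernel

theorem pts_ok : (pts.all fun y => Nat.blt (cls y) 45 && Nat.blt y 3510) = true := by decide +kernel

end

end CfsgLib.Fi22PairAut
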