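import Cfsg.Agent.FischerTypes.Types

/-!
The data attached to two commuting members of a class of 3-transpositions that determine the
centralizer of their product in the automorphism group.
-/

set_option autoImplicit false

namespace CfsgLib.Fi22PairAut

open Cfsg CfsgLib.FischerTypes

variable {G : Type*} [Group G]

/-- The members commuting with both of two members. -/
abbrev both (D : Set G) (d₁ d₂ : G) : Set G := perp D d₁ ∩ perp D d₂

/-- The index of the partner. -/
def partner (k : ℕ) : ℕ := if k % 2 = 0 then k + 1 else k - 1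

/-- An outer involution interchanging two members, eight generators and an element of order three. -/
structure Datum (D : Set G) (d₁ d₂ : G) where
  q : MulAut G
  q_sq : ∀ g, q (q g) = g
  q_d1 : q d₁ = d₂
  e : Fin 8 → G
  e_sq : ∀ k, e k * e k = 1
  e_d1 : ∀ k, Commute (e k) d₁
  e_d2 : ∀ k, Commute (e k) d₂
  e_pair : ∀ k l : Fin 8, e k * e l * e k * e l = if (l : ℕ) = partner k then d₁ * d₂ else 1
  q_e : ∀ k, q (e k) = e k
  q_keeps : ∀ x ∈ both D d₁ d₂, ∀ y ∈ both D d₁ d₂, (Commute (q x) y ↔ Commute x y)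
  e_keeps : ∀ k, ∀ x ∈ both D d₁ d₂, ∀ y ∈ both D d₁ d₂, (Commute (e k * x * (e k)⁻¹) y ↔ Commute x y)
  u : G
  u_d1 : Commute u d₁
  u_d2 : Commute u d₂
  u_cube : u ^ 3 = 1
  u_moves : ∃ x ∈ both D d₁ d₂, ∃ y ∈ both D d₁ d₂, ¬ (Commute (u * x * u⁻¹) y ↔ Commute x y)

theorem image_both {H : Type*} [Group H] (f : G ≃* H) (D : Set G) (d₁ d₂ : G) :
    f '' both D d₁ d₂ = both (f '' D) (f d₁) (f d₂) := by
  have hc : ∀ a b : G, Commute (f a) (f b) ↔ Commute a b := fun a b =>
    ⟨fun h => by simpa using h.map f.symm, fun h => h.map f⟩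
  ext z
  obtain ⟨x, rfl⟩ := f.surjective z
  simp [both, perp, f.injective.eq_iff, hc]
  tauto

/-- Transport of the data along an isomorphism. -/
def Datum.map {D : Set G} {d₁ d₂ : G} (M : Datum D d₁ d₂) {H : Type*} [Group H] (f : G ≃* H)
    {D' : Set H} {a b : H} (hD : f '' D = D') (ha : f d₁ = a) (hb : f d₂ = b) : Datum D' a b where
  q := (f.symm.trans M.q).trans f
  q_sq g := by simp [M.q_sq]
  q_d1 := by simp [← ha, ← hb, M.q_d1]
  e k := f (M.e k)
  e_sq k := by rw [← map_mul, M.e_sq, map_one]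
  e_d1 k := ha ▸ (M.e_d1 k).map f
  e_d2 k := hb ▸ (M.e_d2 k).map f
  e_pair k l := by
    rw [← map_mul, ← map_mul, ← map_mul, M.e_pair, ← ha, ← hb]
    split <;> simp
  q_e k := by simp [M.q_e]
  q_keeps := by
    subst hD ha hb
    rw [← image_both]
    rintro _ ⟨x, hx, rfl⟩ _ ⟨y, hy, rfl⟩
    have h := M.q_keeps x hx y hy
    constructor
    · intro h0
      exact (h.1 (by simpa using h0.map f.symm)).map f
    · intro h0
      simpa using (h.2 (by simpa using h0.map f.symm)).map f
  e_keeps k := by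
    subst hD ha hb
    rw [← image_both]
    rintro _ ⟨x, hx, rfl⟩ _ ⟨y, hy, rfl⟩
    have h := M.e_keeps k x hx y hy
    constructor
    · intro h0
      exact (h.1 (by simpa using h0.map f.symm)).map f
    · intro h0
      simpa using (h.2 (by simpa using h0.map f.symm)).map f
  u := f M.u
  u_d1 := ha ▸ M.u_d1.map f
  u_d2 := hb ▸ M.u_d2.map f
  u_cube := by rw [← map_pow, M.u_cube, map_one]
  u_moves := by
    subst hD ha hb
    obtain ⟨x, hx, y, hy, hn⟩ := M.u_moves
    refine ⟨f x, ?_, f y, ?_, fun h => hn ?_⟩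
    · rw [← image_both]; exact ⟨x, hx, rfl⟩
    · rw [← image_both]; exact ⟨y, hy, rfl⟩
    · constructor
      · intro h0
        simpa using (h.1 (by simpa using h0.map f)).map f.symm
      · intro h0
        simpa using (h.2 (h0.map f)).map f.symm

end CfsgLib.Fi22PairAut
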