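import Cfsg.Agent.Fi22PairAut.Checks
import Cfsg.Agent.Fi22PairAut.Datum

/-!
The outer involution interchanging two commuting transpositions of the presented group `Fi₂₂`, and the
generators of the two-core of their centralizer.
-/

set_option autoImplicit false
set_option maxRecDepth 100000

namespace CfsgLib.Fi22PairAut

open CfsgLib.CosetEnum CfsgLib.Fi22Out

noncomputable section

/-- The points. -/
abbrev N₀ : ℕ := Fi22Out.N

/-- The transposition at a number. -/
def dn (p : ℕ) : Fi22Out.G := prodw Fi22.setup.g (dw p)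

/-- A product of transpositions. -/
def ew : List ℕ → Fi22Out.G
  | [] => 1
  | p :: w => dn p * ew w

theorem ew_append : ∀ v w : List ℕ, ew (v ++ w) = ew v * ew w
  | [], w => (one_mul _).symm
  | p :: v, w => by rw [List.cons_append, ew, ew, ew_append v w, mul_assoc]

/-- The second point. -/
def six : Fin Fi22Out.N := ⟨6, show 6 < 3510 by norm_num⟩

theorem zero_ne_six : (0 : Fin Fi22Out.N) ≠ six := fun h => absurd (congrArg Fin.val h) (show (0 : ℕ) ≠ 6 by norm_num)

variable (S : Act)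

theorem act_ew : ∀ (w : List ℕ), (∀ p ∈ w, p < 3510) → ∀ i : Fin Fi22Out.N,
    ((S.φ (ew w) i : Fin Fi22Out.N) : ℕ) = ept w i
  | [], _, i => by rw [ew, map_one, Equiv.Perm.one_apply]; rfl
  | p :: w, h, i => by
    rw [ew, map_mul, Equiv.Perm.mul_apply]
    show _ = force (ept w i) fun x => mv p x
    rw [force_eq, ← act_ew w (fun x hx => h x (List.mem_cons_of_mem p hx)) i]
    exact S.phi_d ⟨p, h p List.mem_cons_self⟩ _

include S in
theorem eq_of_same {v w : List ℕ} (hv : ∀ p ∈ v, p < 3510) (hw : ∀ p ∈ w, p < 3510)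
    (h : sameOK v w = true) : ew v = ew w := by
  rw [← inv_mul_eq_one]
  apply S.eq_one_of_comm
  intro k hk
  rw [map_mul, map_inv, Equiv.Perm.mul_apply, Equiv.Perm.inv_eq_iff_eq]
  refine Fin.ext ?_
  rw [act_ew S w hw, act_ew S v hv]
  have hm : Fi22Out.gpt.getD k 0 ∈ Fi22Out.gpt := by
    have hk' : k < Fi22Out.gpt.length := hk
    rw [List.getD_eq_getElem _ _ hk']; exact List.getElem_mem hk'
  exact (Nat.eq_of_beq_eq_true (List.all_eq_true.mp h _ hm)).symm

/-- The conjugating element. -/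
def sw : Fi22Out.G := dn 2 * dn 3

include S in
theorem alpha_apply (π : MulAut Fi22Out.G) (hπ : ∀ k, k < 9 → π (Fi22.setup.g k) = d (goF k))
    (i : Fin Fi22Out.N) (j : Fin Fi22Out.N) (hj : (j : ℕ) = qpt i) :
    (MulAut.conj sw * π) (d i) = d j := by
  set r := prodw Fi22.setup.g (pw i) with hr
  have hword : ∀ w : List ℕ, (∀ x ∈ w, x < 9) → π (prodw Fi22.setup.g w) = prodw (piFun ∘ Fi22.en) w := by
    intro w
    induction w with
    | nil => intro _; rw [prodw_nil, prodw_nil, map_one]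
    | cons x w ih =>
      intro h
      rw [prodw_cons, prodw_cons, map_mul, ih fun y hy => h y (List.mem_cons_of_mem x hy),
        hπ x (h x List.mem_cons_self), Function.comp_apply, S.piFun_eq x (h x List.mem_cons_self)]
  have hA : π A = A := by
    show π (Fi22.setup.g 0) = _
    rw [hπ 0 (by norm_num), show goF 0 = 0 from Fin.ext rfl, Act.d_zero]
  rw [MulAut.mul_apply, MulAut.conj_apply, d_eq, map_mul, map_mul, map_inv, hA,
    hword _ (pw_spec (lt_of_pt i)).2]
  set r' := prodw (piFun ∘ Fi22.en) (pw i)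
  rw [show sw * (r'⁻¹ * A * r') * sw⁻¹ = (sw * r'⁻¹) * A * (sw * r'⁻¹)⁻¹ by group, S.conj_A]
  congr 1
  refine Fin.ext ?_
  rw [map_mul, Equiv.Perm.mul_apply, sw, show dn 2 * dn 3 = ew [2, 3] by simp [ew],
    act_ew S _ (by decide), hj]
  have h0 : ((S.φ r'⁻¹ 0 : Fin Fi22Out.N) : ℕ) = al i := by
    rw [map_inv, S.piFun_word _ (pw_spec (lt_of_pt i)).2]
    rfl
  rw [h0]
  simp only [qpt, ept, force_eq]

include S in
theorem qpt_lt (i : Fin Fi22Out.N) : qpt i < 3510 := by
  have h0 : ((S.φ (prodw (piFun ∘ Fi22.en) (pw i))⁻¹ 0 : Fin Fi22Out.N) : ℕ) = al i := by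
    rw [map_inv, S.piFun_word _ (pw_spec (lt_of_pt i)).2]
    rfl
  have h1 := act_ew S [2, 3] (by decide) (S.φ (prodw (piFun ∘ Fi22.en) (pw i))⁻¹ 0)
  rw [h0] at h1
  have h2 : qpt i = ept [2, 3] (al i) := by simp only [qpt, ept, force_eq]
  rw [h2, ← h1]
  exact lt_of_pt _

/-- The class of members. -/
abbrev D₀ : Set Fi22Out.G := Set.range (d : Fin Fi22Out.N → Fi22Out.G)

include S in
theorem mem_both_iff (i : Fin Fi22Out.N) :
    d i ∈ both D₀ (d 0) (d six) ↔ cls i < 45 := by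
  have h := allR_spec 12 0 mem_ok i (Nat.zero_le _) (by have := lt_of_pt i; omega)
  unfold memOK at h
  rw [show Nat.blt i.val 3510 = true by simpa using lt_of_pt i, cond_true, Bool.and_eq_true, beq_iff_eq] at h
  have hne : ∀ p : Fin Fi22Out.N, d i ≠ d p ↔ (Nat.beq i p = false) := fun p => by
    rw [← Bool.not_eq_true, Nat.beq_eq, Fin.val_inj, not_iff_not]
    exact ⟨fun h => S.d_inj h, fun h => h ▸ rfl⟩
  have hblt : cls i < 45 ↔ Nat.blt (cls i) 45 = true := by simp
  rw [hblt, ← h.1]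
  simp only [both, FischerTypes.perp, Set.mem_inter_iff, Set.mem_setOf_eq, Bool.and_eq_true, Bool.not_eq_true',
    hne, show ((0 : Fin Fi22Out.N) : ℕ) = 0 from rfl, show (six : ℕ) = 6 from rfl, ← S.com_iff]
  exact ⟨fun ⟨⟨_, a, b⟩, _, c, e⟩ => ⟨⟨⟨b, e⟩, a⟩, c⟩,
    fun ⟨⟨⟨b, e⟩, a⟩, c⟩ => ⟨⟨⟨i, rfl⟩, a, b⟩, ⟨i, rfl⟩, c, e⟩⟩

include S in
theorem mem_pts (i : Fin Fi22Out.N) (hi : cls i < 45) : (i : ℕ) ∈ pts := by
  have h := allR_spec 12 0 mem_ok i (Nat.zero_le _) (by have := lt_of_pt i; omega)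
  unfold memOK at h
  rw [show Nat.blt i.val 3510 = true by simpa using lt_of_pt i, cond_true, Bool.and_eq_true,
    show Nat.blt (cls i) 45 = true by simpa using hi, Bool.not_true, Bool.false_or] at h
  obtain ⟨x, hx, hx'⟩ := List.any_eq_true.mp h.2
  rw [Nat.beq_eq] at hx'
  rwa [hx']

include S in
theorem commute_iff_adj {i j : Fin Fi22Out.N} (hi : cls i < 45) (hj : cls j < 45) :
    Commute (d i) (d j) ↔ adj (cls i) (cls j) = true := by
  have h := List.all_eq_true.mp row_ok _ (mem_pts S i hi)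
  simp only [rowOK, force_eq, List.all_eq_true, beq_iff_eq] at h
  rw [← h _ (mem_pts S j hj), S.com_iff]

include S in
theorem keeps_of_check (f : Fi22Out.G → Fi22Out.G) (g : ℕ → ℕ) (hg : keepsOK g = true)
    (hf : ∀ i : Fin Fi22Out.N, ∃ j : Fin Fi22Out.N, (j : ℕ) = g i ∧ f (d i) = d j) :
    ∀ x ∈ both D₀ (d 0) (d six), ∀ y ∈ both D₀ (d 0) (d six), (Commute (f x) y ↔ Commute x y) := by
  intro x hx y hy
  obtain ⟨i, rfl⟩ := hx.1.1
  obtain ⟨k, rfl⟩ := hy.1.1
  rw [mem_both_iff S] at hx hy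
  obtain ⟨j, hj, hfj⟩ := hf i
  have hc : cls j = cls i := by
    have := List.all_eq_true.mp hg _ (mem_pts S i hx)
    rw [Nat.beq_eq] at this
    rwa [hj]
  rw [hfj, commute_iff_adj S (hc ▸ hx) hy, commute_iff_adj S hx hy, hc]

theorem ew_map_image (q : MulAut Fi22Out.G) (f : ℕ → ℕ) : ∀ w : List ℕ, (∀ p ∈ w, q (dn p) = dn (f p)) →
    q (ew w) = ew (w.map f)
  | [], _ => map_one q
  | p :: w, h => by
    rw [ew, map_mul, h p List.mem_cons_self, ew_map_image q f w fun x hx => h x (List.mem_cons_of_mem p hx)]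
    rfl

include S in
/-- The data exist in the presented group. -/
theorem nonempty_datum : Nonempty (Datum D₀ (d 0) (d six)) := by
  classical
  obtain ⟨π, hπ⟩ := S.exists_pi
  let q : MulAut Fi22Out.G := MulAut.conj sw * π
  let qF : Fin Fi22Out.N → Fin Fi22Out.N := fun i => ⟨qpt i, qpt_lt S i⟩
  have hq : ∀ i, q (d i) = d (qF i) := fun i => alpha_apply S π hπ i _ rfl
  have hq0 : qF 0 = six := Fin.ext (by simp only [qF]; exact q_small.1)
  have hsq : ∀ g, q (q g) = g := by
    have h1 : (q.toMonoidHom.comp q.toMonoidHom) = MonoidHom.id _ := by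
      refine PresentedGroup.ext fun a => ?_
      have hk := Fi22.setup.ix_lt a
      have he : (PresentedGroup.of a : Fi22Out.G) = Fi22.setup.g (Fi22.setup.ix a) := by
        rw [Setup.g, Fi22.setup.en_ix]
      show q (q (PresentedGroup.of a)) = PresentedGroup.of a
      rw [he, ← S.d_gpF hk, hq, hq]
      congr 1
      refine Fin.ext ?_
      have hm : Fi22Out.gpt.getD (Fi22.setup.ix a) 0 ∈ Fi22Out.gpt := by
        have hk' : Fi22.setup.ix a < Fi22Out.gpt.length := hk
        rw [List.getD_eq_getElem _ _ hk']; exact List.getElem_mem hk'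
      exact Nat.eq_of_beq_eq_true (List.all_eq_true.mp q_small.2.2 _ hm)
    exact fun g => DFunLike.congr_fun h1 g
  have hlen := e_small.1
  have hmemW : ∀ k : Fin 8, eW.getD k [] ∈ eW := fun k => by
    rw [List.getD_eq_getElem _ _ (hlen.symm ▸ k.2)]; exact List.getElem_mem _
  have hW : ∀ k : Fin 8, (∀ p ∈ eW.getD k [], p < 3510) ∧ ept (eW.getD k []) 0 = 0 ∧
      ept (eW.getD k []) 6 = 6 ∧ sameOK ((eW.getD k []).map qpt) (eW.getD k []) = true := by
    intro k
    have h := List.all_eq_true.mp e_small.2 _ (hmemW k)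
    simp only [Bool.and_eq_true, List.all_eq_true, Nat.blt_eq, Nat.beq_eq] at h
    exact ⟨h.1.1.1, h.1.1.2, h.1.2, h.2⟩
  have hw0 := wit_ok
  simp only [Bool.and_eq_true, Bool.not_eq_true', Nat.blt_eq] at hw0
  obtain ⟨⟨⟨⟨⟨⟨⟨⟨⟨ca, cb⟩, cc⟩, cd⟩, la⟩, lb⟩, lc⟩, hz⟩, hmv⟩, hsame⟩ := hw0
  set u := ew [wit.1, wit.2.1] with hu
  have hwl : ∀ p ∈ [wit.1, wit.2.1], p < 3510 := by simp [la, lb]
  have hu0 : S.φ u 0 = 0 := by
    refine Fin.ext ?_
    rw [act_ew S _ hwl]
    simp only [ept, force_eq]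
    show mv wit.1 (mv wit.2.1 0) = 0
    have e1 : mv wit.2.1 0 = 0 := by
      have h1 := (S.com_iff ⟨wit.2.1, lb⟩ 0).2 ((S.com_iff 0 ⟨wit.2.1, lb⟩).1 cc).symm
      exact Nat.eq_of_beq_eq_true h1
    have e2 : mv wit.1 0 = 0 := by
      have h1 := (S.com_iff ⟨wit.1, la⟩ 0).2 ((S.com_iff 0 ⟨wit.1, la⟩).1 ca).symm
      exact Nat.eq_of_beq_eq_true h1
    rw [e1, e2]
  have hu6 : S.φ u six = six := by
    refine Fin.ext ?_
    rw [act_ew S _ hwl]
    simp only [ept, force_eq]
    show mv wit.1 (mv wit.2.1 6) = 6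
    have e1 : mv wit.2.1 6 = 6 := by
      have h1 := (S.com_iff ⟨wit.2.1, lb⟩ six).2 ((S.com_iff six ⟨wit.2.1, lb⟩).1 cd).symm
      exact Nat.eq_of_beq_eq_true h1
    have e2 : mv wit.1 6 = 6 := by
      have h1 := (S.com_iff ⟨wit.1, la⟩ six).2 ((S.com_iff six ⟨wit.1, la⟩).1 cb).symm
      exact Nat.eq_of_beq_eq_true h1
    rw [e1, e2]
  refine ⟨{ q := q, q_sq := hsq, q_d1 := by rw [hq, hq0]
            e := fun k => ew (eW.getD k [])
            e_d1 := fun k => (S.commute_iff _ _).2 (Fin.ext ((act_ew S _ (hW k).1 0).trans (hW k).2.1))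
            e_d2 := fun k => (S.commute_iff _ _).2 (Fin.ext ((act_ew S _ (hW k).1 six).trans (hW k).2.2.1))
            e_sq := fun k => (ew_append _ _).symm.trans ((eq_of_same S
              (fun p hp => (List.mem_append.1 hp).elim ((hW k).1 p) ((hW k).1 p)) (by simp)
              (List.all_eq_true.mp e_sq_ok _ (hmemW k))).trans rfl)
            e_pair := ?_, q_e := ?_
            q_keeps := keeps_of_check S q qpt q_keeps fun i => ⟨qF i, rfl, hq i⟩
            e_keeps := ?_
            u := u, u_d1 := (S.commute_iff _ _).2 hu0, u_d2 := (S.commute_iff _ _).2 hu6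
            u_cube := ?_, u_moves := ?_ }⟩
  · intro k l
    have h := List.all_eq_true.mp (List.all_eq_true.mp pair_ok k (List.mem_range.2 k.2)) l (List.mem_range.2 l.2)
    unfold pairOK at h
    have hp : (bif Nat.beq ((k : ℕ) % 2) 0 then (k : ℕ) + 1 else (k : ℕ) - 1) = partner k := by
      unfold partner
      by_cases h0 : (k : ℕ) % 2 = 0
      · rw [if_pos h0, show Nat.beq ((k : ℕ) % 2) 0 = true by rw [Nat.beq_eq]; exact h0]; rfl
      · rw [if_neg h0, show Nat.beq ((k : ℕ) % 2) 0 = false by rw [← Bool.not_eq_true, Nat.beq_eq]; exact h0]; rfl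
    rw [hp] at h
    have key := eq_of_same S ?_ ?_ h
    · simp only [ew_append, ← mul_assoc] at key
      rw [key]
      by_cases hl : (l : ℕ) = partner k
      · rw [if_pos hl, show Nat.beq (l : ℕ) (partner k) = true by rw [Nat.beq_eq]; exact hl, cond_true]
        simp only [ew, mul_one]
        rfl
      · rw [if_neg hl, show Nat.beq (l : ℕ) (partner k) = false by rw [← Bool.not_eq_true, Nat.beq_eq]; exact hl,
          cond_false]
        rfl
    · intro p hp'
      simp only [List.mem_append] at hp'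
      rcases hp' with ((hp' | hp') | hp') | hp'
      exacts [(hW k).1 p hp', (hW l).1 p hp', (hW k).1 p hp', (hW l).1 p hp']
    · intro p hp'
      cases hb : Nat.beq (l : ℕ) (partner k) <;> simp [hb] at hp' <;> omega
  · intro k
    rw [ew_map_image q qpt _ fun p hp => hq ⟨p, (hW k).1 p hp⟩]
    refine eq_of_same S ?_ (hW k).1 (hW k).2.2.2
    simp only [List.mem_map]
    rintro _ ⟨p, hp, rfl⟩
    exact qpt_lt S ⟨p, (hW k).1 p hp⟩
  · intro k
    refine keeps_of_check S (fun x => ew (eW.getD k []) * x * (ew (eW.getD k []))⁻¹) (ept (eW.getD k []))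
      (List.all_eq_true.mp e_keeps _ (hmemW k)) fun i => ⟨S.φ (ew (eW.getD k [])) i, act_ew S _ (hW k).1 i, ?_⟩
    exact (S.d_conj rfl).symm
  · have key := eq_of_same S (v := [wit.1, wit.2.1, wit.1, wit.2.1, wit.1, wit.2.1]) (w := [])
      (by simp [la, lb]) (by simp) hsame
    rw [← key.trans rfl |>.trans (show ew [] = 1 from rfl), hu]
    simp only [ew, pow_succ, pow_zero, one_mul, mul_one, mul_assoc]
  · obtain ⟨y, hy, hne⟩ := List.any_eq_true.mp wit_sep
    have hy45 : cls y < 45 ∧ y < 3510 := by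
      have := List.all_eq_true.mp pts_ok y hy
      simpa using this
    let yF : Fin Fi22Out.N := ⟨y, hy45.2⟩
    let zF : Fin Fi22Out.N := ⟨wit.2.2, lc⟩
    refine ⟨d zF, (mem_both_iff S zF).2 hz, d yF, (mem_both_iff S yF).2 hy45.1, ?_⟩
    have hcz : u * d zF * u⁻¹ = d (S.φ u zF) := (S.d_conj rfl).symm
    rw [hcz, ← S.com_iff, ← S.com_iff]
    show ¬ (com ((S.φ u zF : Fin Fi22Out.N) : ℕ) y = true ↔ com wit.2.2 y = true)
    rw [act_ew S _ hwl]
    intro h
    rw [← Bool.eq_iff_iff] at h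
    exact absurd (show (com (ept [wit.1, wit.2.1] wit.2.2) y == com wit.2.2 y) = true from beq_iff_eq.2 h)
      (by simpa using hne)


end

end CfsgLib.Fi22PairAut
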