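import Cfsg.Agent.Fi22PairAut.Odd
import Cfsg.Agent.FischerTypes.M22PairFitting
import Cfsg.Agent.FischerTypes.M22Clique

/-!
The centralizer in `Aut G` of the product of two commuting members, in type M(22).
-/

set_option autoImplicit false
set_option linter.style.haveILetI false
set_option maxHeartbeats 1000000

namespace CfsgLib.Fi22PairAut

open Cfsg CfsgLib.FischerTypes

theorem core {G : Type*} [Group G] [Finite G] {D : Set G} (h : IsThreeTranspositionGroup D)
    (hp : IsPrimitiveUnderConj D) (h22 : IsOfTypeM22 G D) {d₁ d₂ : G} (h₁ : d₁ ∈ D) (h₂ : d₂ ∈ perp D d₁)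
    (M : Datum D d₁ d₂) (hidx : (MulAut.conj : G →* MulAut G).range.index = 2)
    (hsmall : Nat.card G < 3 ^ 31) (j : MulAut G) (hj : j = MulAut.conj (d₁ * d₂)) (Q : Subgroup (MulAut G))
    (hQ : Q = (Cfsg.generalizedFittingSubgroup ↥(Subgroup.centralizer ({j} : Set (MulAut G)))).map
      (Subgroup.centralizer ({j} : Set (MulAut G))).subtype) :
    Cfsg.IsLargeExtraspecial Q ∧ Nat.card Q = 2 ^ 11 ∧ Q ≤ Subgroup.centralizer ({j} : Set (MulAut G)) ∧
      ∃ (_ : (Q.subgroupOf (Subgroup.centralizer ({j} : Set (MulAut G)))).Normal) (F : Type) (_ : Field F)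
        (_ : Fintype F), Fintype.card F = 4 ∧
          Nonempty (↥(Subgroup.centralizer ({j} : Set (MulAut G))) ⧸
            Q.subgroupOf (Subgroup.centralizer ({j} : Set (MulAut G))) ≃* MulAut (Cfsg.PSU 4 F 2)) := by
  classical
  have : Fact (Nat.Prime 2) := ⟨Nat.prime_two⟩
  have : Fact (Nat.Prime 5) := ⟨by norm_num⟩
  have h2D : d₂ ∈ D := h₂.1
  have hcc : Commute d₁ d₂ := h₂.2.2
  have hne : d₁ ≠ d₂ := Ne.symm h₂.2.1
  have hD2 : ∀ {x : G}, x ∈ D → x * x = 1 := fun hx => mul_self h.1 hx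
  have hpu := pairUnique h.1 (noTwins_of_primitive h h22.1 hp)
  set c : G →* MulAut G := MulAut.conj with hc
  have hinj : Function.Injective c := by
    rw [← MonoidHom.ker_eq_bot_iff, eq_bot_iff, ← h22.1]
    intro s hs
    refine Subgroup.mem_center_iff.2 fun g => ?_
    have h1 := DFunLike.congr_fun (MonoidHom.mem_ker.1 hs) g
    simp only [hc, MulAut.conj_apply, MulAut.one_apply] at h1
    exact (mul_inv_eq_iff_eq_mul.1 h1).symm
  have hnat : ∀ (a : MulAut G) (g : G), a * c g * a⁻¹ = c (a g) := fun a g =>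
    MulEquiv.ext fun x => by simp [hc, MulAut.mul_apply]
  set CA := Subgroup.centralizer ({j} : Set (MulAut G)) with hCA
  have hmemCA : ∀ a : MulAut G, a ∈ CA ↔ a (d₁ * d₂) = d₁ * d₂ := by
    intro a
    rw [hCA, Subgroup.mem_centralizer_singleton_iff, hj, ← mul_inv_eq_iff_eq_mul]
    show a * c (d₁ * d₂) * a⁻¹ = c (d₁ * d₂) ↔ _
    rw [hnat, hinj.eq_iff]
  set C := Subgroup.centralizer ({d₁ * d₂} : Set G) with hC
  have hcC : ∀ g, c g ∈ CA ↔ g ∈ C := fun g => by
    rw [hmemCA, hC, Subgroup.mem_centralizer_singleton_iff, show c g (d₁ * d₂) = g * (d₁ * d₂) * g⁻¹ from rfl,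
      mul_inv_eq_iff_eq_mul]
  have hDinv : ∀ (a : MulAut G) {x : G}, x ∈ D → a x ∈ D := fun a x hx => mulAut_apply_mem h hp h22 a hx
  -- the pair is preserved
  have hpair : ∀ a ∈ CA, (a d₁ = d₁ ∧ a d₂ = d₂) ∨ (a d₁ = d₂ ∧ a d₂ = d₁) := by
    intro a ha
    refine hpu _ (hDinv a h₁) _ (hDinv a h2D) _ h₁ _ h2D (fun e => hne (a.injective e)) (hcc.map a) hne hcc ?_
    rw [← map_mul, (hmemCA a).1 ha]
  have hboth : ∀ a ∈ CA, ∀ x ∈ both D d₁ d₂, a x ∈ both D d₁ d₂ := by
    intro a ha x hx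
    have h1 : a x ∈ perp D (a d₁) := ⟨hDinv a hx.1.1, fun e => hx.1.2.1 (a.injective e), hx.1.2.2.map a⟩
    have h3 : a x ∈ perp D (a d₂) := ⟨hDinv a hx.2.1, fun e => hx.2.2.1 (a.injective e), hx.2.2.2.map a⟩
    rcases hpair a ha with ⟨e1, e2⟩ | ⟨e1, e2⟩ <;> rw [e1] at h1 <;> rw [e2] at h3
    exacts [⟨h1, h3⟩, ⟨h3, h1⟩]
  have hcomm : ∀ (a : MulAut G) (x y : G), Commute (a x) (a y) ↔ Commute x y := fun a x y =>
    ⟨fun h0 => by simpa using h0.map a.symm, fun h0 => h0.map a⟩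
  let N : Subgroup (MulAut G) :=
    { carrier := {a | a ∈ CA ∧ ∀ x ∈ both D d₁ d₂, ∀ y ∈ both D d₁ d₂, (Commute (a x) y ↔ Commute x y)}
      one_mem' := ⟨one_mem _, fun x _ y _ => Iff.rfl⟩
      mul_mem' := fun {a b} ha hb => ⟨mul_mem ha.1 hb.1, fun x hx y hy =>
        (ha.2 (b x) (hboth b hb.1 x hx) y hy).trans (hb.2 x hx y hy)⟩
      inv_mem' := fun {a} ha => ⟨inv_mem ha.1, fun x hx y hy => by
        have h1 := ha.2 (a⁻¹ x) (hboth _ (inv_mem ha.1) x hx) y hy
        rw [MulAut.apply_inv_self] at h1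
        exact h1.symm⟩ }
  have hNCA : N ≤ CA := fun a ha => ha.1
  have hNnormal : ∀ b ∈ CA, ∀ a ∈ N, b * a * b⁻¹ ∈ N := by
    intro b hb a ha
    refine ⟨mul_mem (mul_mem hb ha.1) (inv_mem hb), fun x hx y hy => ?_⟩
    have h1 := ha.2 (b⁻¹ x) (hboth _ (inv_mem hb) x hx) (b⁻¹ y) (hboth _ (inv_mem hb) y hy)
    have e1 : Commute (a (b⁻¹ x)) (b⁻¹ y) ↔ Commute ((b * a * b⁻¹) x) y := by
      rw [← hcomm b, MulAut.apply_inv_self]
      rfl
    have e2 : Commute (b⁻¹ x) (b⁻¹ y) ↔ Commute x y := hcomm b⁻¹ x y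
    exact e1.symm.trans (h1.trans e2)
  have hN'n : (N.subgroupOf CA).Normal := ⟨fun a ha b => hNnormal b b.2 a ha⟩
  -- the centralizer in `G`
  obtain ⟨-, -, -, E, -, hEC, hEinv, hEcard, -, hEnormal, F, iF, iFF, hF, ⟨eq⟩⟩ :=
    pair_centralizer h hp h22 h₁ h₂
  obtain ⟨Ef, hFstar, ⟨X, iX, iXf, -, hXcard, ⟨eX⟩⟩, -, F', iF', iFF', hF', -⟩ := pair_fitting h hp h22 h₁ h₂ C rfl
  have hF2 : Fintype.card F = 2 ^ 2 := by rw [hF]; norm_num
  obtain ⟨C₀, hC₀⟩ := CfsgLib.RepBounds.Unit.exists_conjField (F := F) 2 hF2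
  obtain ⟨eS⟩ := CfsgLib.U62.nonempty_equiv_psu C₀ hC₀
  have hScard : Nat.card (Cfsg.PSU 4 F 2) = 25920 := by rw [← Nat.card_congr eS.toEquiv, card_suG_four C₀ hC₀]
  have hAcard : Nat.card (MulAut (Cfsg.PSU 4 F 2)) = 51840 := card_aut_suG_four C₀ hC₀
  have hSsimp : IsSimpleGroup (Cfsg.PSU 4 F 2) :=
    CfsgLib.Forms4.isSimpleGroup_PSU (F := F) (q := 2) hF2 4 (by norm_num) (by simp)
  obtain ⟨sx, sy, hsxy⟩ : ∃ x y : Cfsg.PSU 4 F 2, x * y ≠ y * x := by
    by_contra hall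
    push Not at hall
    have h1 : (Nat.card (Cfsg.PSU 4 F 2)).Prime := by
      let _ : CommGroup (Cfsg.PSU 4 F 2) := { (inferInstance : Group (Cfsg.PSU 4 F 2)) with mul_comm := hall }
      exact IsSimpleGroup.prime_card
    rw [hScard] at h1
    norm_num at h1
  have hIinj : Function.Injective (MulAut.conj (G := Cfsg.PSU 4 F 2)) := by
    rw [← MonoidHom.ker_eq_bot_iff]
    rcases (inferInstance : (MulAut.conj (G := Cfsg.PSU 4 F 2)).ker.Normal).eq_bot_or_eq_top with h1 | h1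
    · exact h1
    · exfalso
      have h2 : sy ∈ (MulAut.conj (G := Cfsg.PSU 4 F 2)).ker := h1 ▸ Subgroup.mem_top sy
      have h3 := DFunLike.congr_fun (MonoidHom.mem_ker.1 h2) sx
      simp only [MulAut.conj_apply, MulAut.one_apply] at h3
      exact hsxy (mul_inv_eq_iff_eq_mul.1 h3).symm
  set I := (MulAut.conj (G := Cfsg.PSU 4 F 2)).range with hI
  have hIcard : Nat.card I = 25920 := by rw [hI, ← Nat.card_congr (MonoidHom.ofInjective hIinj).toEquiv, hScard]
  have hIidx : I.index = 2 := by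
    have h1 := I.card_mul_index
    rw [hIcard, hAcard] at h1
    omega
  set E' : Subgroup ↥C := E.subgroupOf C with hE'
  have hE'card : Nat.card E' = 2 ^ 10 := by rw [Nat.card_congr (Subgroup.subgroupOfEquivOfLe hEC).toEquiv, hEcard]
  have hE'2 : IsPGroup 2 ↥E' := IsPGroup.of_card (n := 10) hE'card
  set π : ↥C →* MulAut (Cfsg.PSU 4 F 2) := eq.toMonoidHom.comp (QuotientGroup.mk' E') with hπ
  have hπs : Function.Surjective π := eq.surjective.comp (QuotientGroup.mk'_surjective E')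
  have hπk : π.ker = E' := by
    ext x
    simp [hπ, MonoidHom.mem_ker]
  have hdicho : ∀ L : Subgroup ↥C, L.Normal → L ≤ E' ∨ I ≤ L.map π := by
    intro L hL
    have : (L.map π).Normal := hL.map π hπs
    rcases normal_eq_bot_or_inn_le hsxy (L.map π) with h0 | h0
    · left
      rw [← hπk]
      exact (Subgroup.map_eq_bot_iff L).1 h0
    · exact Or.inr h0
  -- the kernel of the action on the classes
  set N' : Subgroup ↥C := N.comap (c.comp C.subtype) with hN'
  have hN'nor : N'.Normal := ⟨fun a ha b => by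
    show c ((b * a * b⁻¹ : ↥C) : G) ∈ N
    rw [Subgroup.coe_mul, Subgroup.coe_mul, Subgroup.coe_inv, map_mul, map_mul, map_inv]
    exact hNnormal _ ((hcC _).2 b.2) _ ha⟩
  have hbC : ∀ {x : G}, x ∈ both D d₁ d₂ → x ∈ C := fun {x} hx => by
    rw [hC, Subgroup.mem_centralizer_singleton_iff]
    exact (hx.1.2.2.symm.mul_right hx.2.2.2.symm).eq
  have hEN : E' ≤ N' := by
    intro e he
    refine ⟨(hcC _).2 e.2, fun x hx y hy => ?_⟩
    have hx' : c (e : G) x ∈ both D d₁ d₂ := hboth _ ((hcC _).2 e.2) x hx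
    set x' := c (e : G) x with hx'd
    have hπe : π ⟨x', hbC hx'⟩ = π ⟨x, hbC hx⟩ := by
      have h1 : (⟨x', hbC hx'⟩ : ↥C) = e * ⟨x, hbC hx⟩ * e⁻¹ := Subtype.ext (by simp [hx'd, hc])
      have h2 : π e = 1 := MonoidHom.mem_ker.1 (hπk ▸ he)
      rw [h1, map_mul, map_mul, map_inv, h2, one_mul, inv_one, mul_one]
    have key : ∀ {s t : G} (hs : s ∈ both D d₁ d₂) (ht : t ∈ both D d₁ d₂),
        π ⟨s, hbC hs⟩ = π ⟨t, hbC ht⟩ → Commute s y → Commute t y := by
      intro s t hs ht hst hsy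
      by_contra hty
      have h3 : (t * y) ^ 3 = 1 := by
        refine (h.1.2 t ht.1.1 y hy.1.1).resolve_left fun h2 => hty ?_
        have h4 : t * y = (t * y)⁻¹ := eq_inv_of_mul_eq_one_left (by rwa [← pow_two])
        rw [mul_inv_rev, inv_eq_of_mul_eq_one_right (hD2 ht.1.1), inv_eq_of_mul_eq_one_right (hD2 hy.1.1)] at h4
        exact h4
      set ty : ↥C := ⟨t, hbC ht⟩ * ⟨y, hbC hy⟩
      have h5 : π ty ^ 2 = 1 := by
        rw [map_mul, ← hst, ← map_mul, ← map_pow]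
        convert map_one π
        refine Subtype.ext ?_
        show (s * y) ^ 2 = 1
        rw [pow_two, hsy.symm.mul_mul_mul_comm, hD2 hs.1.1, hD2 hy.1.1, one_mul]
      have h6 : π ty ^ 3 = 1 := by
        rw [← map_pow, show ty ^ 3 = 1 from Subtype.ext h3, map_one]
      have h7 : π ty = 1 := by
        have := h6
        rw [pow_succ, h5, one_mul] at this
        exact this
      have h8 : ty ∈ E' := hπk ▸ MonoidHom.mem_ker.2 h7
      have h9 : (⟨ty, h8⟩ : E') = 1 := by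
        obtain ⟨n, hn⟩ := hE'2 ⟨ty, h8⟩
        have h10 : (⟨ty, h8⟩ : E') ^ 3 = 1 := Subtype.ext (Subtype.ext h3)
        have h11 := Nat.eq_one_of_dvd_coprimes (show Nat.Coprime (2 ^ n) 3 from
          Nat.Coprime.pow_left n (by norm_num)) (orderOf_dvd_of_pow_eq_one hn) (orderOf_dvd_of_pow_eq_one h10)
        exact orderOf_eq_one_iff.1 h11
      have h12 : t * y = 1 := congrArg (fun w : E' => ((w : ↥C) : G)) h9
      exact hty (by rw [eq_inv_of_mul_eq_one_left h12]; exact (Commute.refl y).inv_left)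
    exact ⟨key hx' hx hπe, key hx hx' hπe.symm⟩
  have hNE : N' ≤ E' := by
    rcases hdicho N' hN'nor with h0 | h0
    · exact h0
    exfalso
    have huC : M.u ∈ C := by
      rw [hC, Subgroup.mem_centralizer_singleton_iff]
      exact (M.u_d1.mul_right M.u_d2).eq
    set u : ↥C := ⟨M.u, huC⟩
    have hu3 : u ^ 3 = 1 := Subtype.ext M.u_cube
    have h1 : π u ∈ I := by
      have h2 : π u = (π u ^ 2) ^ 2 := by
        rw [← pow_mul, show 2 * 2 = 3 + 1 from rfl, pow_succ, ← map_pow, hu3, map_one, one_mul]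
      rw [h2]
      exact Subgroup.sq_mem_of_index_two hIidx _
    obtain ⟨n, hn, hnu⟩ := h0 h1
    have h3 : u * n⁻¹ ∈ E' := hπk ▸ MonoidHom.mem_ker.2 (by rw [map_mul, map_inv, hnu, mul_inv_cancel])
    have h4 : u ∈ N' := by
      have := mul_mem (hEN h3) hn
      rwa [inv_mul_cancel_right] at this
    obtain ⟨x, hx, y, hy, hno⟩ := M.u_moves
    exact hno (h4.2 x hx y hy)
  have hNE' : N' = E' := le_antisymm hNE hEN
  have hinE : ∀ g : G, c g ∈ N → g ∈ E := fun g hg => by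
    have hgC := (hcC g).1 hg.1
    have : (⟨g, hgC⟩ : ↥C) ∈ E' := hNE (show _ ∈ N' from hg)
    exact Subgroup.mem_subgroupOf.1 this
  -- the generators
  have hqd2 : M.q d₂ = d₁ := by
    conv_lhs => arg 2; rw [← M.q_d1]
    exact M.q_sq d₁
  have hqj : M.q ∈ CA := by rw [hmemCA, map_mul, M.q_d1, hqd2, hcc.eq]
  have heC : ∀ k, M.e k ∈ C := fun k => by
    rw [hC, Subgroup.mem_centralizer_singleton_iff]
    exact ((M.e_d1 k).mul_right (M.e_d2 k)).eq
  have hd1C : d₁ ∈ C := by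
    rw [hC, Subgroup.mem_centralizer_singleton_iff]
    exact ((Commute.refl d₁).mul_right hcc).eq
  have hqN : M.q ∈ N := ⟨hqj, M.q_keeps⟩
  have heN : ∀ k, c (M.e k) ∈ N := fun k => ⟨(hcC _).2 (heC k), fun x hx y hy => by
    simpa [hc] using M.e_keeps k x hx y hy⟩
  have hdN : c d₁ ∈ N := ⟨(hcC _).2 hd1C, fun x hx y _ => by
    rw [show c d₁ x = x by simp [hc, hx.1.2.2.eq]]⟩
  let xs : Fin 10 → MulAut G := fun k =>
    if hk : (k : ℕ) < 8 then c (M.e ⟨k, hk⟩) else if (k : ℕ) = 8 then c d₁ else M.q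
  have hxlt : ∀ (k : Fin 10) (hk : (k : ℕ) < 8), xs k = c (M.e ⟨k, hk⟩) := fun k hk => dif_pos hk
  have hx8 : ∀ k : Fin 10, (k : ℕ) = 8 → xs k = c d₁ := fun k hk => by
    show dite _ _ _ = _
    rw [dif_neg (by omega), if_pos hk]
  have hx9 : ∀ k : Fin 10, (k : ℕ) = 9 → xs k = M.q := fun k hk => by
    show dite _ _ _ = _
    rw [dif_neg (by omega), if_neg (by omega)]
  have hcases : ∀ k : Fin 10, (∃ l : Fin 8, (l : ℕ) = k ∧ xs k = c (M.e l)) ∨ ((k : ℕ) = 8 ∧ xs k = c d₁) ∨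
      ((k : ℕ) = 9 ∧ xs k = M.q) := fun k => by
    rcases lt_trichotomy (k : ℕ) 8 with hk | hk | hk
    · exact Or.inl ⟨⟨k, hk⟩, rfl, hxlt k hk⟩
    · exact Or.inr (Or.inl ⟨hk, hx8 k hk⟩)
    · exact Or.inr (Or.inr ⟨by omega, hx9 k (by omega)⟩)
  have hqq : M.q * M.q = 1 := MulEquiv.ext M.q_sq
  have hqi : M.q⁻¹ = M.q := inv_eq_of_mul_eq_one_right hqq
  have hqc : ∀ g, M.q * c g = c (M.q g) * M.q := fun g => by rw [← hnat, inv_mul_cancel_right]
  have hP : Pairs xs j := by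
    refine ⟨?_, ?_, ?_, ?_, ?_⟩
    · rw [hj]
      intro h0
      refine hne ?_
      have h1 := hinj (h0.trans (map_one c).symm)
      rw [eq_inv_of_mul_eq_one_left h1, inv_eq_of_mul_eq_one_right (hD2 h2D)]
    · rw [hj, ← map_mul, hcc.symm.mul_mul_mul_comm, hD2 h₁, hD2 h2D, one_mul, map_one]
    · intro k
      have : xs k ∈ CA := by
        rcases hcases k with ⟨l, -, e⟩ | ⟨-, e⟩ | ⟨-, e⟩ <;> rw [e]
        exacts [(heN l).1, hdN.1, hqj]
      exact ((Subgroup.mem_centralizer_singleton_iff.1 this : xs k * j = j * xs k)).symm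
    · intro k
      rcases hcases k with ⟨l, -, e⟩ | ⟨-, e⟩ | ⟨-, e⟩ <;> rw [e]
      · rw [← map_mul, M.e_sq, map_one]
      · rw [← map_mul, hD2 h₁, map_one]
      · exact hqq
    · intro k l
      rcases hcases k with ⟨k', ek, e⟩ | ⟨ek, e⟩ | ⟨ek, e⟩ <;>
        rcases hcases l with ⟨l', el, e'⟩ | ⟨el, e'⟩ | ⟨el, e'⟩ <;> rw [e, e']
      · rw [← map_mul, ← map_mul, ← map_mul, M.e_pair, ek, el, hj]
        split <;> simp [hc]
      · rw [if_neg (by rw [el]; have := k'.2; unfold partner; split <;> omega), ← map_mul, ← map_mul, ← map_mul,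
          (M.e_d1 k').eq, mul_assoc d₁, M.e_sq, mul_one, hD2 h₁, map_one]
      · rw [if_neg (by rw [el]; have := k'.2; unfold partner; split <;> omega), mul_assoc (c (M.e k') * M.q),
          mul_assoc (c (M.e k')), ← mul_assoc M.q, hqc, M.q_e, mul_assoc (c (M.e k')) M.q, hqq, mul_one, ← map_mul,
          M.e_sq, map_one]
      · rw [if_neg (by rw [ek]; have := l'.2; unfold partner; split <;> omega), ← map_mul, ← map_mul, ← map_mul,
          ← (M.e_d1 l').eq, mul_assoc (M.e l'), hD2 h₁, mul_one, M.e_sq, map_one]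
      · rw [if_neg (by rw [ek, el]; decide), ← map_mul, ← map_mul, ← map_mul, hD2 h₁, one_mul, hD2 h₁, map_one]
      · rw [if_pos (by rw [ek, el]; decide), mul_assoc (c d₁ * M.q), mul_assoc (c d₁), ← mul_assoc M.q, hqc,
          M.q_d1, mul_assoc (c d₂), hqq, mul_one, ← map_mul, hj]
      · rw [if_neg (by rw [ek]; have := l'.2; unfold partner; split <;> omega), hqc, M.q_e, mul_assoc (c (M.e l')),
          hqq, mul_one, ← map_mul, M.e_sq, map_one]
      · rw [if_pos (by rw [ek, el]; decide), hqc, M.q_d1, mul_assoc (c d₂), hqq, mul_one, ← map_mul, hj, hcc.eq]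
      · rw [if_neg (by rw [ek, el]; decide), hqq, one_mul, hqq]
  set T := Subgroup.closure (Set.range xs) with hT
  set R := Subgroup.closure (Set.range M.e ∪ {d₁}) with hR
  have hRmem : ∀ k, M.e k ∈ R := fun k => Subgroup.subset_closure (Or.inl ⟨k, rfl⟩)
  have hd1R : d₁ ∈ R := Subgroup.subset_closure (Or.inr rfl)
  have hd2R : d₂ ∈ R := by
    have h1 := M.e_pair 0 1
    rw [if_pos (by decide)] at h1
    have h2 : d₁ * d₂ ∈ R := h1 ▸ mul_mem (mul_mem (mul_mem (hRmem 0) (hRmem 1)) (hRmem 0)) (hRmem 1)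
    have h3 := mul_mem hd1R h2
    rwa [← mul_assoc, hD2 h₁, one_mul] at h3
  have hRE : R ≤ E := by
    rw [hR, Subgroup.closure_le]
    rintro w (⟨k, rfl⟩ | rfl)
    exacts [hinE _ (heN k), hinE _ hdN]
  have hqR : ∀ g ∈ R, M.q g ∈ R := by
    intro g hg
    induction hg using Subgroup.closure_induction with
    | mem w hw =>
      rcases hw with ⟨k, rfl⟩ | rfl
      · rw [M.q_e]; exact hRmem k
      · rw [M.q_d1]; exact hd2R
    | one => rw [map_one]; exact one_mem _
    | mul a b _ _ ha hb => rw [map_mul]; exact mul_mem ha hb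
    | inv a _ ha => rw [map_inv]; exact inv_mem ha
  have hTform : ∀ t ∈ T, ∃ r ∈ R, t = c r ∨ t = c r * M.q := by
    intro t ht
    induction ht using Subgroup.closure_induction with
    | mem w hw =>
      obtain ⟨k, rfl⟩ := hw
      rcases hcases k with ⟨l, -, e⟩ | ⟨-, e⟩ | ⟨-, e⟩ <;> rw [e]
      exacts [⟨_, hRmem l, Or.inl rfl⟩, ⟨_, hd1R, Or.inl rfl⟩, ⟨1, one_mem _, Or.inr (by rw [map_one, one_mul])⟩]
    | one => exact ⟨1, one_mem _, Or.inl (map_one c).symm⟩
    | mul a b _ _ ha hb =>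
      obtain ⟨r, hr, rfl | rfl⟩ := ha <;> obtain ⟨s, hs, rfl | rfl⟩ := hb
      · exact ⟨r * s, mul_mem hr hs, Or.inl (map_mul c r s).symm⟩
      · exact ⟨r * s, mul_mem hr hs, Or.inr (by rw [map_mul, mul_assoc])⟩
      · exact ⟨r * M.q s, mul_mem hr (hqR s hs), Or.inr (by rw [map_mul, mul_assoc, hqc, mul_assoc])⟩
      · exact ⟨r * M.q s, mul_mem hr (hqR s hs), Or.inl (by
          rw [map_mul, mul_assoc, ← mul_assoc M.q, hqc, mul_assoc (c (M.q s)), hqq, mul_one])⟩
    | inv a _ ha =>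
      obtain ⟨r, hr, rfl | rfl⟩ := ha
      · exact ⟨r⁻¹, inv_mem hr, Or.inl (map_inv c r).symm⟩
      · exact ⟨M.q r⁻¹, hqR _ (inv_mem hr), Or.inr (by rw [mul_inv_rev, hqi, ← map_inv, hqc])⟩
  have hTR : Nat.card T ≤ 2 * Nat.card R := by
    let f : R × Bool → MulAut G := fun p => if p.2 then c p.1 * M.q else c p.1
    have h1 : (T : Set (MulAut G)) ⊆ Set.range f := fun t ht => by
      obtain ⟨r, hr, rfl | rfl⟩ := hTform t ht
      exacts [⟨(⟨r, hr⟩, false), rfl⟩, ⟨(⟨r, hr⟩, true), rfl⟩]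
    calc Nat.card T = (T : Set (MulAut G)).ncard := (Nat.card_coe_set_eq (T : Set (MulAut G))).symm ▸ rfl
      _ ≤ (Set.range f).ncard := Set.ncard_le_ncard h1 (Set.toFinite _)
      _ ≤ Nat.card (R × Bool) := by
        rw [← Nat.card_coe_set_eq]
        exact Nat.card_le_card_of_surjective _ Set.rangeFactorization_surjective
      _ = 2 * Nat.card R := by rw [Nat.card_prod, mul_comm]; simp
  have hRE' : R = E := Subgroup.eq_of_le_of_card_ge hRE (by
    have h1 := hP.card_ge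
    rw [hEcard]
    change 2 ^ 11 ≤ Nat.card T at h1
    omega)
  have hEd1 : ∀ g ∈ E, Commute g d₁ := by
    rw [← hRE']
    intro g hg
    induction hg using Subgroup.closure_induction with
    | mem w hw =>
      rcases hw with ⟨k, rfl⟩ | rfl
      exacts [M.e_d1 k, Commute.refl _]
    | one => exact Commute.one_left _
    | mul a b _ _ ha hb => exact ha.mul_left hb
    | inv a _ ha => exact ha.inv_left
  have hqout : M.q ∉ c.range := by
    rintro ⟨g, hg⟩
    have h1 := hEd1 g (hinE g (hg ▸ hqN))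
    refine hne ?_
    rw [← M.q_d1, ← hg, show c g d₁ = g * d₁ * g⁻¹ by simp [hc], h1.eq, mul_inv_cancel_right]
  have hsplit : ∀ a : MulAut G, ∃ g, a = c g ∨ a = M.q * c g := by
    intro a
    by_cases ha : a ∈ c.range
    · obtain ⟨g, rfl⟩ := ha; exact ⟨g, Or.inl rfl⟩
    · obtain ⟨g, hg⟩ := ((Subgroup.mul_mem_iff_of_index_two hidx).2
        (iff_of_false (fun h0 => hqout (hqi ▸ h0)) ha) : M.q⁻¹ * a ∈ c.range)
      exact ⟨g, Or.inr (by rw [hg, mul_inv_cancel_left])⟩
  have hsplitC : ∀ a ∈ CA, ∃ g ∈ C, a = c g ∨ a = M.q * c g := by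
    intro a ha
    obtain ⟨g, hg | hg⟩ := hsplit a
    · exact ⟨g, (hcC g).1 (hg ▸ ha), Or.inl hg⟩
    · refine ⟨g, (hcC g).1 ?_, Or.inr hg⟩
      have := mul_mem (inv_mem hqj) ha
      rwa [hg, inv_mul_cancel_left] at this
  have hTN : T = N := by
    refine le_antisymm ((Subgroup.closure_le _).2 ?_) fun a ha => ?_
    · rintro _ ⟨k, rfl⟩
      rcases hcases k with ⟨l, -, e⟩ | ⟨-, e⟩ | ⟨-, e⟩ <;> rw [e]
      exacts [heN l, hdN, hqN]
    have hxT : ∀ k, xs k ∈ T := fun k => Subgroup.subset_closure ⟨k, rfl⟩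
    have hqT : M.q ∈ T := hx9 9 rfl ▸ hxT 9
    have hcR : ∀ g ∈ E, c g ∈ T := by
      rw [← hRE']
      intro g hg
      induction hg using Subgroup.closure_induction with
      | mem w hw =>
        rcases hw with ⟨k, rfl⟩ | rfl
        · exact hxlt ⟨k, by omega⟩ k.2 ▸ hxT ⟨k, by omega⟩
        · exact hx8 8 rfl ▸ hxT 8
      | one => rw [map_one]; exact one_mem _
      | mul a b _ _ ha hb => rw [map_mul]; exact mul_mem ha hb
      | inv a _ ha => rw [map_inv]; exact inv_mem ha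
    obtain ⟨g, -, rfl | rfl⟩ := hsplitC a ha.1
    · exact hcR g (hinE g ha)
    · refine mul_mem hqT (hcR g (hinE g ?_))
      have := mul_mem (inv_mem hqN) ha
      rwa [inv_mul_cancel_left] at this
  obtain ⟨hNcard, hNex, hNcen⟩ := hP.isExtraspecial (by
    have h1 := hTR
    rw [hRE', hEcard] at h1
    change Nat.card T ≤ 2 ^ 11
    omega)
  change Nat.card T = _ at hNcard
  rw [show Subgroup.closure (Set.range xs) = N from hTN] at hNex hNcen
  rw [hTN] at hNcard
  have hjN : j ∈ N := hTN ▸ hP.z_mem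
  -- the quotient
  let φ : ↥C →* ↥CA := (c.comp C.subtype).codRestrict CA fun g => (hcC g).2 g.2
  let ψ : ↥C →* ↥CA ⧸ N.subgroupOf CA := (QuotientGroup.mk' (N.subgroupOf CA)).comp φ
  have hψk : ψ.ker = E' := by
    rw [← hNE']
    ext g
    rw [MonoidHom.mem_ker]
    show ((φ g : ↥CA) : ↥CA ⧸ N.subgroupOf CA) = 1 ↔ _
    rw [QuotientGroup.eq_one_iff]
    rfl
  have hψs : Function.Surjective ψ := by
    intro w
    obtain ⟨a, rfl⟩ := QuotientGroup.mk'_surjective (N.subgroupOf CA) w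
    obtain ⟨g, hg, hag | hag⟩ := hsplitC a a.2
    · exact ⟨⟨g, hg⟩, congrArg (QuotientGroup.mk' (N.subgroupOf CA))
        (show φ ⟨g, hg⟩ = a from Subtype.ext hag.symm)⟩
    · refine ⟨⟨g, hg⟩, QuotientGroup.eq.2 ?_⟩
      show (φ ⟨g, hg⟩ : MulAut G)⁻¹ * (a : MulAut G) ∈ N
      show (c g)⁻¹ * (a : MulAut G) ∈ N
      rw [hag]
      have := hNnormal _ (inv_mem ((hcC g).2 hg)) _ hqN
      rwa [inv_inv, mul_assoc] at this
  let iso : ↥CA ⧸ N.subgroupOf CA ≃* MulAut (Cfsg.PSU 4 F 2) :=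
    ((QuotientGroup.quotientKerEquivOfSurjective ψ hψs).symm.trans (QuotientGroup.quotientMulEquivOfEq hψk)).trans eq
  set ρ : ↥CA →* MulAut (Cfsg.PSU 4 F 2) := iso.toMonoidHom.comp (QuotientGroup.mk' (N.subgroupOf CA)) with hρ
  have hρs : Function.Surjective ρ := iso.surjective.comp (QuotientGroup.mk'_surjective _)
  have hρk : ρ.ker = N.subgroupOf CA := by
    ext x
    simp [hρ, MonoidHom.mem_ker]
  set NA := N.subgroupOf CA with hNA
  have hNA2 : IsPGroup 2 ↥NA := IsPGroup.of_card (n := 11)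
    (by rw [Nat.card_congr (Subgroup.subgroupOfEquivOfLe hNCA).toEquiv, hNcard])
  have hdA : ∀ L : Subgroup ↥CA, L.Normal → L ≤ NA ∨ I ≤ L.map ρ := by
    intro L hL
    have : (L.map ρ).Normal := hL.map ρ hρs
    rcases normal_eq_bot_or_inn_le hsxy (L.map ρ) with h0 | h0
    · left
      rw [← hρk]
      exact (Subgroup.map_eq_bot_iff L).1 h0
    · exact Or.inr h0
  -- elements of `C` centralizing `E` lie in `E`
  have hCE : Subgroup.centralizer (E' : Set ↥C) ≤ E' := by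
    have : E'.Normal := hEnormal
    have hEfN : Ef.Normal := by rw [← hFstar]; exact Subgroup.sup_normal _ _
    have hle : Ef ≤ E' := by
      have h10 : Nat.card Ef = 2 ^ 10 := by
        rw [Nat.card_congr eX.toEquiv, Nat.card_prod, hXcard]
        simp
      rcases hdicho Ef hEfN with h0 | h0
      · exact h0
      · exfalso
        have h1 := (Subgroup.card_dvd_of_le h0).trans (Subgroup.card_map_dvd Ef π)
        rw [hIcard, h10] at h1
        norm_num at h1
    refine ((Subgroup.centralizer_le (SetLike.coe_subset_coe.2 hle)).trans ?_).trans hle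
    rw [← hFstar]
    exact CfsgLib.Components.centralizer_generalizedFitting_le_self
  obtain ⟨s, hs⟩ : ∃ s : I, orderOf s = 5 := exists_prime_orderOf_dvd_card' 5 (by rw [hIcard]; norm_num)
  have hcentCA : Subgroup.centralizer (N : Set (MulAut G)) ≤ CA := fun a ha => by
    rw [hCA, Subgroup.mem_centralizer_singleton_iff]
    exact (Subgroup.mem_centralizer_iff.1 ha j hjN).symm
  have hcentN : Subgroup.centralizer (N : Set (MulAut G)) ≤ N := by
    set L := (Subgroup.centralizer (N : Set (MulAut G))).subgroupOf CA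
    have hLn : L.Normal := ⟨fun a ha b => by
      refine Subgroup.mem_subgroupOf.2 (Subgroup.mem_centralizer_iff.2 fun n hn => ?_)
      have h1 := Subgroup.mem_centralizer_iff.1 (Subgroup.mem_subgroupOf.1 ha) _
        (hNnormal _ (inv_mem b.2) n hn)
      rw [inv_inv] at h1
      push_cast
      calc n * ((b : MulAut G) * a * (b : MulAut G)⁻¹)
          = b * (((b : MulAut G)⁻¹ * n * b) * a) * (b : MulAut G)⁻¹ := by group
        _ = b * ((a : MulAut G) * ((b : MulAut G)⁻¹ * n * b)) * (b : MulAut G)⁻¹ := by rw [h1]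
        _ = _ := by group⟩
    rcases hdA L hLn with h0 | h0
    · intro a ha
      exact Subgroup.mem_subgroupOf.1 (h0 (Subgroup.mem_subgroupOf.2 ha : (⟨a, hcentCA ha⟩ : ↥CA) ∈ L))
    exfalso
    obtain ⟨a, ha, has⟩ := h0 s.2
    obtain ⟨g, hg⟩ : (a : MulAut G) ^ 2 ∈ c.range := Subgroup.sq_mem_of_index_two hidx _
    have hgC : g ∈ C := (hcC g).1 (hg ▸ pow_mem a.2 2)
    have hgcent : (⟨g, hgC⟩ : ↥C) ∈ Subgroup.centralizer (E' : Set ↥C) := by
      refine Subgroup.mem_centralizer_iff.2 fun w hw => Subtype.ext (hinj ?_)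
      have hwN : c (w : G) ∈ N := hEN hw
      have h1 : Commute (c (w : G)) ((a : MulAut G) ^ 2) :=
        Commute.pow_right (Subgroup.mem_centralizer_iff.1 (Subgroup.mem_subgroupOf.1 ha) _ hwN) 2
      simpa [hg] using h1.eq
    have h2 : a ^ 2 ∈ NA := Subgroup.mem_subgroupOf.2 (by
      rw [SubmonoidClass.coe_pow, ← hg]
      exact (hEN (hCE hgcent) : _ ∈ N'))
    rw [← hρk, MonoidHom.mem_ker, map_pow, has] at h2
    have h3 : (s : I) ^ 2 = 1 := Subtype.ext (by simpa using h2)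
    have h4 := orderOf_dvd_of_pow_eq_one h3
    rw [hs] at h4
    norm_num at h4
  have hNAn : NA.Normal := hN'n
  have hcentA : Subgroup.centralizer (NA : Set ↥CA) ≤ NA := fun a ha => by
    refine Subgroup.mem_subgroupOf.2 (hcentN (Subgroup.mem_centralizer_iff.2 fun n hn => ?_))
    exact congrArg Subtype.val (Subgroup.mem_centralizer_iff.1 ha ⟨n, hNCA hn⟩ hn)
  have hcore : pCore 2 ↥CA = NA := by
    refine le_antisymm ?_ (CfsgLib.Components.le_pCore hNA2)
    have : (pCore 2 ↥CA).Normal := CfsgLib.Solvable.pCore_normal 2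
    rcases hdA (pCore 2 ↥CA) inferInstance with h0 | h0
    · exact h0
    exfalso
    obtain ⟨n, hn⟩ := IsPGroup.iff_card.1 (CfsgLib.Components.isPGroup_pCore (G := ↥CA) 2)
    have h1 := (Subgroup.card_dvd_of_le h0).trans (Subgroup.card_map_dvd (pCore 2 ↥CA) ρ)
    rw [hn, hIcard] at h1
    have := Nat.Prime.dvd_of_dvd_pow (by norm_num : Nat.Prime 5) ((show 5 ∣ 25920 by norm_num).trans h1)
    omega
  have hlayer : layer ↥CA = ⊥ := by
    refine CfsgLib.Components.layer_eq_bot_of_map_le_of_isPGroup (U := N) (p := 2)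
      (IsPGroup.of_card (n := 11) hNcard) ?_
    rintro _ ⟨x, hx, rfl⟩
    have h1 : layer ↥CA ≤ Subgroup.centralizer (NA : Set ↥CA) :=
      CfsgLib.Components.layer_le_centralizer_fittingSubgroup.trans
        (Subgroup.centralizer_le (SetLike.coe_subset_coe.2
          (CfsgLib.Components.le_fittingSubgroup hNA2.isNilpotent)))
    exact Subgroup.mem_subgroupOf.1 (hcentA (h1 hx))
  have hFA : generalizedFittingSubgroup ↥CA = NA := by
    rw [CfsgLib.Components.generalizedFitting_eq_pCore 2 hlayer fun L hL hco => ?_, hcore]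
    have h0 : L ⊓ NA = ⊥ := Subgroup.inf_eq_bot_of_coprime (by
      obtain ⟨n, hn⟩ := IsPGroup.iff_card.1 hNA2
      rw [hn]
      exact hco.pow_right n)
    have h1 : L ≤ Subgroup.centralizer (NA : Set ↥CA) := fun x hx => Subgroup.mem_centralizer_iff.2 fun w hw =>
      (Subgroup.commute_of_normal_of_disjoint L NA hL hNAn (disjoint_iff.2 h0) x w hx hw).symm.eq
    exact eq_bot_iff.2 ((le_inf le_rfl (h1.trans hcentA)).trans h0.le)
  have hQN : Q = N := by
    rw [hQ, hFA, hNA]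
    exact Subgroup.map_subgroupOf_eq_of_le hNCA
  subst hQN
  refine ⟨⟨hNex, ?_, ?_, ?_⟩, hNcard, hNCA, hN'n, F, iF, iFF, hF, ⟨iso⟩⟩
  · refine le_antisymm (fun a ha => ?_) ?_
    · exact ⟨⟨a, hcentN ha⟩, Subgroup.mem_center_iff.2 fun n =>
        Subtype.ext (Subgroup.mem_centralizer_iff.1 ha n n.2), rfl⟩
    · rintro _ ⟨a, ha, rfl⟩
      exact Subgroup.mem_centralizer_iff.2 fun n hn => congrArg Subtype.val (Subgroup.mem_center_iff.1 ha ⟨n, hn⟩)
  · rw [hNcen]
    intro a ha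
    have haCA : a ∈ CA := by
      rw [hCA, Subgroup.mem_centralizer_singleton_iff]
      exact (Subgroup.mem_centralizer_iff.1 ha j (Subgroup.mem_zpowers j)).symm
    rw [Subgroup.mem_normalizer_iff]
    intro n
    refine ⟨fun hn => hNnormal a haCA n hn, fun hn => ?_⟩
    have h1 := hNnormal a⁻¹ (inv_mem haCA) _ hn
    simpa [mul_assoc] using h1
  · intro K hKodd hKn
    have hconj : ∀ n ∈ N, ∀ v ∈ K, n * v * n⁻¹ ∈ K := fun n hn v hv =>
      ((Subgroup.mem_normalizer_iff.1 (hKn hn)) v).1 hv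
    have hfpf : ∀ v ∈ K, j * v * j⁻¹ = v → v = 1 := by
      intro v hv hjv
      have hvCA : v ∈ CA := by
        rw [hCA, Subgroup.mem_centralizer_singleton_iff]
        exact (mul_inv_eq_iff_eq_mul.1 hjv).symm
      have hvN : v ∈ N := hcentN (Subgroup.mem_centralizer_iff.2 fun n hn => by
        have h1 : v * n * v⁻¹ * n⁻¹ ∈ N := mul_mem (hNnormal v hvCA n hn) (inv_mem hn)
        have h2 : v * n * v⁻¹ * n⁻¹ ∈ K := by
          rw [mul_assoc, mul_assoc, ← mul_assoc n]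
          exact mul_mem hv (hconj n hn _ (inv_mem hv))
        have h3 : K ⊓ N = ⊥ := Subgroup.inf_eq_bot_of_coprime (by
          rw [hNcard]
          exact (Nat.coprime_two_right.2 hKodd).pow_right 11)
        have h4 : v * n * v⁻¹ * n⁻¹ = 1 := by rw [← Subgroup.mem_bot, ← h3]; exact ⟨h2, h1⟩
        exact (mul_inv_eq_iff_eq_mul.1 (mul_inv_eq_one.1 h4)).symm)
      have h3 : K ⊓ N = ⊥ := Subgroup.inf_eq_bot_of_coprime (by
        rw [hNcard]
        exact (Nat.coprime_two_right.2 hKodd).pow_right 11)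
      rw [← Subgroup.mem_bot, ← h3]
      exact ⟨hv, hvN⟩
    have hji : j⁻¹ = j := inv_eq_of_mul_eq_one_right hP.zsq
    have hinvert : ∀ v ∈ K, j * v * j⁻¹ = v⁻¹ := by
      let f : ↥K →* ↥K :=
        { toFun := fun v => ⟨j * v * j⁻¹, hconj j hjN v v.2⟩
          map_one' := Subtype.ext (by simp)
          map_mul' := fun a b => Subtype.ext (by simp [mul_assoc]) }
      have hff : MonoidHom.FixedPointFree f := fun v hv =>
        Subtype.ext (hfpf v v.2 (congrArg Subtype.val hv))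
      have hinvol : Function.Involutive f := fun v => Subtype.ext (by
        show j * (j * v * j⁻¹) * j⁻¹ = v
        rw [hji, ← mul_assoc, ← mul_assoc, hP.zsq, one_mul, mul_assoc, hP.zsq, mul_one])
      intro v hv
      exact congrArg Subtype.val (congrFun (MonoidHom.FixedPointFree.coe_eq_inv_of_involutive hff hinvol) ⟨v, hv⟩)
    refine hP.odd_eq_bot ?_ K hKodd (fun k v hv => ?_) hinvert
    · have h1 := c.range.card_mul_index
      rw [hidx, ← Nat.card_congr (MonoidHom.ofInjective hinj).toEquiv] at h1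
      rw [← h1]
      calc Nat.card G * 2 < 3 ^ 31 * 2 := by omega
        _ ≤ 3 ^ 32 := by norm_num
    · have := hconj _ ((show Subgroup.closure (Set.range xs) = N from hTN) ▸ hP.mem k : xs k ∈ N) v hv
      rwa [inv_eq_of_mul_eq_one_right (hP.sq k)] at this

end CfsgLib.Fi22PairAut
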