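import Cfsg.Agent.Fi22PairAut.Datum
import Cfsg.Agent.LargeExtraspecial.Quotient

/-!
A group generated by five hyperbolic pairs of involutions with common central commutator.
-/

set_option autoImplicit false

namespace CfsgLib.Fi22PairAut

variable {K : Type*} [Group K]

/-- Ten involutions forming five hyperbolic pairs over a central involution. -/
structure Pairs (x : Fin 10 → K) (z : K) : Prop where
  zne : z ≠ 1
  zsq : z * z = 1
  zc : ∀ k, Commute z (x k)
  sq : ∀ k, x k * x k = 1
  pair : ∀ k l : Fin 10, x k * x l * x k * x l = if (l : ℕ) = partner k then z else 1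

namespace Pairs

variable {x : Fin 10 → K} {z : K} (P : Pairs x z)

include P

theorem mem (k : Fin 10) : x k ∈ Subgroup.closure (Set.range x) := Subgroup.subset_closure ⟨k, rfl⟩

theorem z_mem : z ∈ Subgroup.closure (Set.range x) := by
  have h := P.pair 0 1
  rw [if_pos (by decide)] at h
  rw [← h]
  exact mul_mem (mul_mem (mul_mem (P.mem 0) (P.mem 1)) (P.mem 0)) (P.mem 1)

theorem z_central {t : K} (ht : t ∈ Subgroup.closure (Set.range x)) : Commute z t := by
  induction ht using Subgroup.closure_induction with
  | mem y hy => obtain ⟨k, rfl⟩ := hy; exact P.zc k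
  | one => exact Commute.one_right z
  | mul a b _ _ ha hb => exact ha.mul_right hb
  | inv a _ ha => exact ha.inv_right

theorem conj_gen {t : K} (ht : t ∈ Subgroup.closure (Set.range x)) (k : Fin 10) :
    t * x k * t⁻¹ = x k ∨ t * x k * t⁻¹ = z * x k := by
  induction ht using Subgroup.closure_induction generalizing k with
  | mem y hy =>
    obtain ⟨l, rfl⟩ := hy
    have h := P.pair l k
    have hi : (x l)⁻¹ = x l := inv_eq_of_mul_eq_one_right (P.sq l)
    have e : x l * x k * x l * x k * x k = x l * x k * x l := by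
      rw [mul_assoc, P.sq k, mul_one]
    rw [hi]
    split at h
    · right; rw [← e, h]
    · left; rw [← e, h, one_mul]
  | one => left; simp
  | mul a b ha' hb' ha hb =>
    have hz : a * z * a⁻¹ = z := by
      rw [← (P.z_central ha').eq, mul_inv_cancel_right]
    rw [show a * b * x k * (a * b)⁻¹ = a * (b * x k * b⁻¹) * a⁻¹ by group]
    rcases hb k with e | e <;> rw [e]
    · exact ha k
    · rw [show a * (z * x k) * a⁻¹ = (a * z * a⁻¹) * (a * x k * a⁻¹) by group, hz]
      rcases ha k with e' | e' <;> rw [e']
      · exact Or.inr rfl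
      · left; rw [← mul_assoc, P.zsq, one_mul]
  | inv a ha' ha =>
    have hz : a⁻¹ * z * a = z := by
      rw [mul_assoc, (P.z_central ha').eq, inv_mul_cancel_left]
    rw [inv_inv]
    rcases ha k with e | e
    · left
      conv_lhs => rw [← e]
      group
    · right
      have e2 : x k = (a⁻¹ * z * a) * (a⁻¹ * x k * a) := by
        calc x k = a⁻¹ * (a * x k * a⁻¹) * a := by group
          _ = a⁻¹ * (z * x k) * a := by rw [e]
          _ = _ := by group
      rw [hz] at e2
      conv_rhs => rw [e2, ← mul_assoc, P.zsq, one_mul]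

theorem comm {s t : K} (hs : s ∈ Subgroup.closure (Set.range x)) (ht : t ∈ Subgroup.closure (Set.range x)) :
    s * t * s⁻¹ = t ∨ s * t * s⁻¹ = z * t := by
  have hz : s * z * s⁻¹ = z := by rw [← (P.z_central hs).eq, mul_inv_cancel_right]
  induction ht using Subgroup.closure_induction with
  | mem y hy => obtain ⟨k, rfl⟩ := hy; exact P.conj_gen hs k
  | one => left; simp
  | mul a b ha' _ ha hb =>
    rw [show s * (a * b) * s⁻¹ = (s * a * s⁻¹) * (s * b * s⁻¹) by group]
    rcases ha with e | e <;> rw [e] <;> rcases hb with e' | e' <;> rw [e']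
    · exact Or.inl rfl
    · right; rw [← mul_assoc a, ← (P.z_central ha').eq, mul_assoc]
    · right; rw [mul_assoc]
    · left
      rw [mul_assoc z a, ← mul_assoc a z b, ← (P.z_central ha').eq, mul_assoc z a b, ← mul_assoc, P.zsq, one_mul]
  | inv a ha' ha =>
    rw [show s * a⁻¹ * s⁻¹ = (s * a * s⁻¹)⁻¹ by group]
    rcases ha with e | e <;> rw [e]
    · exact Or.inl rfl
    · right
      rw [mul_inv_rev, inv_eq_of_mul_eq_one_right P.zsq, (P.z_central (inv_mem ha')).eq]

theorem commutator_cases {s t : K} (hs : s ∈ Subgroup.closure (Set.range x))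
    (ht : t ∈ Subgroup.closure (Set.range x)) : s * t * s⁻¹ * t⁻¹ = 1 ∨ s * t * s⁻¹ * t⁻¹ = z := by
  rcases P.comm hs ht with e | e <;> rw [e]
  · exact Or.inl (mul_inv_cancel t)
  · exact Or.inr (mul_inv_cancel_right z t)

theorem square_cases {t : K} (ht : t ∈ Subgroup.closure (Set.range x)) : t * t = 1 ∨ t * t = z := by
  induction ht using Subgroup.closure_induction with
  | mem y hy => obtain ⟨k, rfl⟩ := hy; exact Or.inl (P.sq k)
  | one => left; simp
  | mul a b ha' hb' ha hb =>
    have key : a * b * (a * b) = (b * a * b⁻¹ * a⁻¹) * (a * a) * (b * b) := by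
      have hcz : Commute (b * a * b⁻¹ * a⁻¹) a := by
        rcases P.commutator_cases hb' ha' with e | e <;> rw [e]
        exacts [Commute.one_left a, P.z_central ha']
      calc a * b * (a * b) = a * ((b * a * b⁻¹ * a⁻¹) * a * b) * b := by group
        _ = (a * (b * a * b⁻¹ * a⁻¹)) * a * b * b := by group
        _ = (b * a * b⁻¹ * a⁻¹) * a * a * b * b := by rw [hcz.eq]
        _ = _ := by group
    rw [key]
    rcases P.commutator_cases hb' ha' with e | e <;> rw [e] <;> rcases ha with e1 | e1 <;> rw [e1] <;>
      rcases hb with e2 | e2 <;> rw [e2] <;> simp [P.zsq]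
  | inv a _ ha =>
    rw [← mul_inv_rev]
    rcases ha with e | e <;> rw [e]
    · simp
    · exact Or.inr (inv_eq_of_mul_eq_one_right P.zsq)

/-- The commutators with the generators, as a homomorphism. -/
theorem exists_chi : ∃ χ : ↥(Subgroup.closure (Set.range x)) →* (Fin 10 → Multiplicative (ZMod 2)),
    Function.Surjective χ ∧ ∀ t, χ t = 1 ↔ ∀ k, Commute (t : K) (x k) := by
  classical
  set o : Multiplicative (ZMod 2) := Multiplicative.ofAdd 1
  have hone : (1 : Multiplicative (ZMod 2)) ≠ o := by decide
  let f : ↥(Subgroup.closure (Set.range x)) → Fin 10 → Multiplicative (ZMod 2) :=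
    fun t k => if Commute (t : K) (x k) then 1 else o
  have hval : ∀ (t : ↥(Subgroup.closure (Set.range x))) k, ¬ Commute (t : K) (x k) →
      (t : K) * x k * (t : K)⁻¹ = z * x k := fun t k hn => by
    rcases P.conj_gen t.2 k with e | e
    · exact absurd (mul_inv_eq_iff_eq_mul.1 e) hn
    · exact e
  have hmul : ∀ a b, f (a * b) = f a * f b := by
    intro a b
    funext k
    simp only [f, Pi.mul_apply, Subgroup.coe_mul]
    have hz : (a : K) * z * (a : K)⁻¹ = z := by rw [← (P.z_central a.2).eq, mul_inv_cancel_right]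
    have e : (a : K) * b * x k * ((a : K) * b)⁻¹ = (a : K) * ((b : K) * x k * (b : K)⁻¹) * (a : K)⁻¹ := by group
    have hiff : ∀ t : K, Commute t (x k) ↔ t * x k * t⁻¹ = x k := fun t => by
      rw [mul_inv_eq_iff_eq_mul]; rfl
    have hzx : z * x k ≠ x k := fun h => P.zne (mul_eq_right.1 h)
    by_cases h1 : Commute (a : K) (x k) <;> by_cases h2 : Commute (b : K) (x k)
    · rw [if_pos h1, if_pos h2, if_pos (h1.mul_left h2), mul_one]
    · have h3 : ¬ Commute ((a : K) * b) (x k) := by
        rw [hiff, e, hval b k h2, show (a : K) * (z * x k) * (a : K)⁻¹ =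
          ((a : K) * z * (a : K)⁻¹) * ((a : K) * x k * (a : K)⁻¹) by group, hz, (hiff _).1 h1]
        exact hzx
      rw [if_pos h1, if_neg h2, if_neg h3, one_mul]
    · have h3 : ¬ Commute ((a : K) * b) (x k) := by
        rw [hiff, e, (hiff _).1 h2, hval a k h1]
        exact hzx
      rw [if_neg h1, if_pos h2, if_neg h3, mul_one]
    · have h3 : Commute ((a : K) * b) (x k) := by
        rw [hiff, e, hval b k h2, show (a : K) * (z * x k) * (a : K)⁻¹ =
          ((a : K) * z * (a : K)⁻¹) * ((a : K) * x k * (a : K)⁻¹) by group, hz, hval a k h1, ← mul_assoc, P.zsq,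
          one_mul]
      rw [if_neg h1, if_neg h2, if_pos h3]
      decide
  refine ⟨MonoidHom.mk' f hmul, ?_, fun t => ?_⟩
  · intro v
    have hgen : ∀ (k : Fin 10) (a : Multiplicative (ZMod 2)),
        Pi.mulSingle k a ∈ (MonoidHom.mk' f hmul).range := by
      intro k a
      rcases (show a = 1 ∨ a = o by revert a; decide) with rfl | rfl
      · rw [Pi.mulSingle_one]; exact one_mem _
      have hp : partner k < 10 := by have := k.2; unfold partner; split <;> omega
      refine ⟨⟨x ⟨partner k, hp⟩, P.mem _⟩, funext fun m => ?_⟩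
      show (if Commute (x ⟨partner k, hp⟩) (x m) then (1 : Multiplicative (ZMod 2)) else o) = _
      have h := P.pair ⟨partner k, hp⟩ m
      have hpp : partner (partner k) = k := by unfold partner; split <;> split <;> omega
      set y := x ⟨partner k, hp⟩ with hy
      have hyy : y * y = 1 := P.sq _
      have hcomm : Commute y (x m) ↔ y * x m * y * x m = 1 := by
        constructor
        · intro hc
          rw [mul_assoc y (x m) y, ← hc.eq, ← mul_assoc y y (x m), hyy, one_mul, P.sq]
        · intro h0
          rw [mul_assoc] at h0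
          have h1 : y * x m = (y * x m)⁻¹ := eq_inv_of_mul_eq_one_left h0
          rw [mul_inv_rev, inv_eq_of_mul_eq_one_right hyy, inv_eq_of_mul_eq_one_right (P.sq m)] at h1
          exact h1
      rw [show ((⟨partner k, hp⟩ : Fin 10) : ℕ) = partner k from rfl, hpp] at h
      by_cases hm : m = k
      · subst hm
        rw [if_pos rfl] at h
        rw [if_neg fun hc => P.zne (h.symm.trans (hcomm.1 hc)), Pi.mulSingle_eq_same]
      · rw [if_neg fun h0 => hm (Fin.ext h0)] at h
        rw [if_pos (hcomm.2 h), Pi.mulSingle_eq_of_ne hm]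
    rw [← Finset.univ_prod_mulSingle v]
    exact Subgroup.prod_mem _ fun k _ => hgen k _
  · rw [funext_iff]
    refine forall_congr' fun k => ?_
    show (if Commute (t : K) (x k) then (1 : Multiplicative (ZMod 2)) else o) = 1 ↔ _
    by_cases h : Commute (t : K) (x k)
    · simp [h]
    · simp [h, Ne.symm hone]

variable [Finite K]

theorem card_ge : 2 ^ 11 ≤ Nat.card ↥(Subgroup.closure (Set.range x)) := by
  classical
  obtain ⟨χ, hs, hk⟩ := P.exists_chi
  have h1 : Nat.card ↥(Subgroup.closure (Set.range x)) = 1024 * Nat.card χ.ker := by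
    have e : Nat.card (Fin 10 → Multiplicative (ZMod 2)) = 1024 := by simp [Nat.card_fun]
    rw [← e, ← Nat.card_congr (QuotientGroup.quotientKerEquivOfSurjective χ hs).toEquiv]
    exact Subgroup.card_eq_card_quotient_mul_card_subgroup _
  have h2 : 2 ≤ Nat.card χ.ker := by
    have : Nontrivial χ.ker := ⟨⟨⟨z, P.z_mem⟩, (hk _).2 fun k => P.zc k⟩, 1, fun h =>
      P.zne (by simpa using congrArg (fun t : χ.ker => ((t : ↥(Subgroup.closure (Set.range x))) : K)) h)⟩
    exact Finite.one_lt_card
  omega

theorem isExtraspecial (hcard : Nat.card ↥(Subgroup.closure (Set.range x)) ≤ 2 ^ 11) :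
    Nat.card ↥(Subgroup.closure (Set.range x)) = 2 ^ 11 ∧
    Cfsg.IsExtraspecial 2 ↥(Subgroup.closure (Set.range x)) ∧
      (Subgroup.center ↥(Subgroup.closure (Set.range x))).map (Subgroup.closure (Set.range x)).subtype
        = Subgroup.zpowers z := by
  classical
  have hc11 := le_antisymm hcard P.card_ge
  obtain ⟨χ, hs, hk⟩ := P.exists_chi
  have h1 : Nat.card χ.ker = 2 := by
    have e : Nat.card (Fin 10 → Multiplicative (ZMod 2)) = 1024 := by simp [Nat.card_fun]
    have h2 := Subgroup.card_eq_card_quotient_mul_card_subgroup χ.ker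
    rw [Nat.card_congr (QuotientGroup.quotientKerEquivOfSurjective χ hs).toEquiv, e, hc11] at h2
    omega
  refine ⟨hc11, CfsgLib.LargeExtraspecial.isExtraspecial_of_props (IsPGroup.of_card (n := 11) hc11)
    (orderOf_eq_prime (by rw [pow_two, P.zsq]) P.zne) P.z_mem (fun t ht => (P.z_central ht).symm.eq)
    (fun t ht => P.square_cases ht) (fun s hs t ht => P.commutator_cases hs ht) ?_ ?_⟩
  · intro t ht hc
    by_contra hne
    push Not at hne
    obtain ⟨e1, e2⟩ := hne
    let g : Fin 3 → χ.ker := ![1, ⟨⟨z, P.z_mem⟩, (hk _).2 fun k => P.zc k⟩,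
      ⟨⟨t, ht⟩, (hk _).2 fun k => (hc _ (P.mem k)).symm⟩]
    have hv : ∀ {u w : χ.ker}, ((u : ↥(Subgroup.closure (Set.range x))) : K) ≠
        ((w : ↥(Subgroup.closure (Set.range x))) : K) → u ≠ w := fun h he => h (he ▸ rfl)
    have hg : Function.Injective g := by
      intro i j hij
      fin_cases i <;> fin_cases j <;>
        first
        | rfl
        | exact absurd hij (hv (by simpa [g] using Ne.symm P.zne))
        | exact absurd hij (hv (by simpa [g] using P.zne))
        | exact absurd hij (hv (by simpa [g] using e1))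
        | exact absurd hij (hv (by simpa [g] using Ne.symm e1))
        | exact absurd hij (hv (by simpa [g] using e2))
        | exact absurd hij (hv (by simpa [g] using Ne.symm e2))
    have h3 := Nat.card_le_card_of_injective g hg
    rw [h1, Nat.card_fin] at h3
    omega
  · have h := P.pair 0 1
    rw [if_pos (by decide)] at h
    refine ⟨x 0, P.mem 0, x 1, P.mem 1, fun hc => P.zne ?_⟩
    rw [← h, hc, mul_assoc (x 1), P.sq, mul_one, P.sq]

end Pairs

end CfsgLib.Fi22PairAut
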