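import Cfsg.Agent.Fi22PairAut.Concrete
import Cfsg.Agent.Fi22PairAut.Core
import Cfsg.Agent.Transpositions.M22Unique

/-!
The data in any group of type M(22).
-/

set_option autoImplicit false

namespace CfsgLib.Fi22PairAut

open Cfsg CfsgLib.FischerTypes

/-- The centralizer in the automorphism group of the product of two commuting members. -/
theorem main {G : Type*} [Group G] [Finite G] {D : Set G} (h : IsThreeTranspositionGroup D)
    (hp : IsPrimitiveUnderConj D) (h22 : IsOfTypeM22 G D) {d₁ d₂ : G} (h₁ : d₁ ∈ D) (h₂ : d₂ ∈ D)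
    (hne : d₁ ≠ d₂) (hcc : Commute d₁ d₂) (j : MulAut G) (hj : j = MulAut.conj (d₁ * d₂))
    (Q : Subgroup (MulAut G))
    (hQ : Q = (Cfsg.generalizedFittingSubgroup ↥(Subgroup.centralizer ({j} : Set (MulAut G)))).map
      (Subgroup.centralizer ({j} : Set (MulAut G))).subtype) :
    Cfsg.IsLargeExtraspecial Q ∧ Nat.card Q = 2 ^ 11 ∧ Q ≤ Subgroup.centralizer ({j} : Set (MulAut G)) ∧
      ∃ (_ : (Q.subgroupOf (Subgroup.centralizer ({j} : Set (MulAut G)))).Normal) (F : Type) (_ : Field F)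
        (_ : Fintype F), Fintype.card F = 4 ∧
          Nonempty (↥(Subgroup.centralizer ({j} : Set (MulAut G))) ⧸
            Q.subgroupOf (Subgroup.centralizer ({j} : Set (MulAut G))) ≃* MulAut (Cfsg.PSU 4 F 2)) := by
  classical
  obtain ⟨S⟩ := CfsgLib.Fi22Out.exists_act
  obtain ⟨e, he⟩ := CfsgLib.Transpositions.M22Unique.exists_equiv h hp h22
  let e' : CfsgLib.Fi22Out.G ≃* G := e
  have hD₀ : e' '' D₀ = D := by
    have h1 : D₀ = conjugatesOf (PresentedGroup.of Cfsg.Spor.Fi22.Gen.a : CfsgLib.Fi22Out.G) := by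
      ext x
      constructor
      · rintro ⟨i, rfl⟩
        have h2 := S.d_conj (S.pw_zero i)
        rw [Fi22Out.Act.d_zero] at h2
        exact isConj_iff.2 ⟨_, h2.symm⟩
      · intro hx
        obtain ⟨g, rfl⟩ := isConj_iff.1 hx
        exact ⟨S.φ g 0, (S.conj_A g).symm⟩
    rw [h1]
    exact he
  have hmem : ∀ i, e' (CfsgLib.Fi22Out.d i) ∈ D := fun i => hD₀ ▸ ⟨_, ⟨i, rfl⟩, rfl⟩
  -- move the standard pair to the given one
  obtain ⟨g, hg⟩ := single_class h h22 (hmem 0) h₁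
  obtain ⟨M⟩ := exists_perpModel h h22 h₁
  have hb : g * e' (CfsgLib.Fi22Out.d six) * g⁻¹ ∈ perp D d₁ := by
    refine ⟨h.2.1 g _ (hmem six), fun e0 => ?_, ?_⟩
    · rw [← hg] at e0
      exact zero_ne_six (S.d_inj (e'.injective (mul_left_cancel (mul_right_cancel e0)))).symm
    · rw [← hg, commute_conj_iff']
      exact Commute.map ((S.com_iff 0 six).1 (show CfsgLib.Fi22Out.com 0 6 = true by decide +kernel)) e'
  obtain ⟨k, hk, hk2⟩ := M.exists_conj hb (show d₂ ∈ perp D d₁ from ⟨h₂, hne.symm, hcc⟩)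
  have hk1 := conj_of_mem hk
  let f : CfsgLib.Fi22Out.G ≃* G := e'.trans (MulAut.conj (k * g))
  have hfD : f '' D₀ = D := by
    rw [show (⇑f : CfsgLib.Fi22Out.G → G) = (fun x => (k * g) * x * (k * g)⁻¹) ∘ e' from rfl, Set.image_comp, hD₀]
    refine Set.Subset.antisymm ?_ fun x hx => ⟨(k * g)⁻¹ * x * (k * g), ?_, by group⟩
    · rintro _ ⟨x, hx, rfl⟩
      exact h.2.1 _ x hx
    · have := h.2.1 (k * g)⁻¹ x hx
      rwa [inv_inv] at this
  obtain ⟨M₀⟩ := nonempty_datum S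
  have hcardG : Nat.card G = 64561751654400 := by rw [← Nat.card_congr e'.toEquiv, S.card]
  have hout : (MulAut.conj : G →* MulAut G).range.index = 2 := by
    have hc := CfsgLib.Fi22Out.Act.card_out S
    rw [← Subgroup.index] at hc
    have hmap : ((Cfsg.Inn CfsgLib.Fi22Out.G).map (MulAut.congr e').toMonoidHom)
        = (MulAut.conj : G →* MulAut G).range := by
      ext a
      constructor
      · rintro ⟨_, ⟨x, rfl⟩, rfl⟩
        exact ⟨e' x, MulEquiv.ext fun y => by simp [MulAut.congr]⟩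
      · rintro ⟨x, rfl⟩
        exact ⟨_, ⟨e'.symm x, rfl⟩, MulEquiv.ext fun y => by simp [MulAut.congr]⟩
    rw [← hmap]
    exact (Subgroup.index_map_equiv _ (MulAut.congr e')).trans hc
  refine core h hp h22 h₁ ⟨h₂, hne.symm, hcc⟩ (M₀.map f hfD ?_ ?_) hout (by rw [hcardG]; norm_num) j hj Q hQ
  · show k * g * e' _ * (k * g)⁻¹ = d₁
    rw [show k * g * e' (CfsgLib.Fi22Out.d 0) * (k * g)⁻¹ = k * (g * e' (CfsgLib.Fi22Out.d 0) * g⁻¹) * k⁻¹ by group,
      hg, hk1]
  · show k * g * e' _ * (k * g)⁻¹ = d₂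
    rw [show k * g * e' (CfsgLib.Fi22Out.d six) * (k * g)⁻¹ =
      k * (g * e' (CfsgLib.Fi22Out.d six) * g⁻¹) * k⁻¹ by group, hk2]

end CfsgLib.Fi22PairAut
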