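import Cfsg.Agent.Fi22PairAut.Extra

/-!
An odd-order subgroup normalized by five hyperbolic pairs and inverted by their commutator has order at
least `3 ^ 32` or one.
-/

set_option autoImplicit false

namespace CfsgLib.Fi22PairAut

variable {K : Type*} [Group K] [Finite K]

theorem eq_one_of_sq {H : Subgroup K} (hodd : Odd (Nat.card H)) {a : K} (ha : a ∈ H) (h2 : a * a = 1) : a = 1 := by
  by_contra hne
  have h : orderOf (⟨a, ha⟩ : H) = 2 := orderOf_eq_prime (by rw [pow_two]; exact Subtype.ext h2)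
    (fun h0 => hne (congrArg Subtype.val h0))
  have hd : 2 ∣ Nat.card H := h ▸ orderOf_dvd_natCard _
  rw [Nat.odd_iff] at hodd
  omega

/-- The fixed points of one half of a pair. -/
theorem step {H : Subgroup K} (hodd : Odd (Nat.card H)) {x y z : K} (hx2 : x * x = 1) (hy2 : y * y = 1)
    (hxy : x * y * x * y = z) (hx : ∀ v ∈ H, x * v * x ∈ H) (hy : ∀ v ∈ H, y * v * y ∈ H)
    (hz : ∀ v ∈ H, z * v * z⁻¹ = v⁻¹) :
    Nat.card ↥(H ⊓ Subgroup.centralizer {x} : Subgroup K) ^ 2 ≤ Nat.card H ∧
      ((H ⊓ Subgroup.centralizer {x} : Subgroup K) = ⊥ → H = ⊥) := by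
  have hmem : ∀ {v : K}, v ∈ Subgroup.centralizer ({x} : Set K) ↔ x * v * x = v := fun {v} => by
    rw [Subgroup.mem_centralizer_singleton_iff]
    constructor
    · intro h; rw [← h, mul_assoc, hx2, mul_one]
    · intro h; conv_lhs => rw [← h]
      rw [mul_assoc, hx2, mul_one]
  have hzi : z⁻¹ = y * x * y * x := by
    rw [← hxy]
    simp only [mul_inv_rev, inv_eq_of_mul_eq_one_right hx2, inv_eq_of_mul_eq_one_right hy2, mul_assoc]
  have hswap : ∀ w : K, x * (y * w * y) * x = z * (y * (x * w * x) * y) * z⁻¹ := by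
    intro w
    conv_rhs => rw [hzi, ← hxy]
    calc x * (y * w * y) * x = x * y * (w * (y * x)) := by group
      _ = x * y * (x * (y * y) * x * w * (x * (y * y) * x) * (y * x)) := by
        rw [hy2, mul_one, hx2, one_mul, mul_one]
      _ = _ := by group
  -- `x` maps `y b y` to its inverse when it fixes `b`
  have hinv : ∀ b ∈ H, x * b * x = b → x * (y * b * y) * x = (y * b * y)⁻¹ := by
    intro b hb hfix
    rw [hswap, hfix]
    exact hz _ (hy b hb)
  set L := H ⊓ Subgroup.centralizer ({x} : Set K)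
  refine ⟨?_, fun hbot => ?_⟩
  · let f : L × L → H := fun p => ⟨(p.1 : K) * (y * (p.2 : K) * y), mul_mem p.1.2.1 (hy _ p.2.2.1)⟩
    have hf : Function.Injective f := by
      rintro ⟨⟨a, ha⟩, ⟨b, hb⟩⟩ ⟨⟨a', ha'⟩, ⟨b', hb'⟩⟩ he
      have he' : a * (y * b * y) = a' * (y * b' * y) := congrArg Subtype.val he
      have e1 : a'⁻¹ * a = (y * b' * y) * (y * b * y)⁻¹ := by
        rw [eq_mul_inv_iff_mul_eq, mul_assoc, he', inv_mul_cancel_left]
      have hc : (y * b' * y)⁻¹ * (y * b * y) = (y * b' * y) * (y * b * y)⁻¹ := by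
        have h0 := hmem.1 (mul_mem (inv_mem ha'.2) ha.2)
        rw [e1] at h0
        conv_rhs => rw [← h0]
        have i1 := hinv b hb.1 (hmem.1 hb.2)
        have i2 := hinv b' hb'.1 (hmem.1 hb'.2)
        conv_lhs => rw [← i2, ← inv_inv (y * b * y), ← i1]
        simp only [mul_inv_rev, inv_eq_of_mul_eq_one_right hx2, mul_assoc]
        simp [← mul_assoc x x, hx2]
      have hsq : (y * b * y) * (y * b * y) = (y * b' * y) * (y * b' * y) := by
        calc (y * b * y) * (y * b * y)
            = (y * b' * y) * ((y * b' * y)⁻¹ * (y * b * y)) * (y * b * y) := by group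
          _ = (y * b' * y) * ((y * b' * y) * (y * b * y)⁻¹) * (y * b * y) := by rw [hc]
          _ = _ := by group
      have hcc : y * b * y = y * b' * y := by
        have hH1 := hy _ hb.1
        have hH2 := hy _ hb'.1
        obtain ⟨m, hm⟩ := hodd
        have key : ∀ v ∈ H, v = (v * v) ^ (m + 1) := by
          intro v hv
          have h1 : (⟨v, hv⟩ : H) ^ Nat.card H = 1 := pow_card_eq_one'
          have h2 : v ^ Nat.card H = 1 := congrArg Subtype.val h1
          rw [← pow_two, ← pow_mul, show 2 * (m + 1) = Nat.card H + 1 by omega, pow_succ, h2, one_mul]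
        rw [key _ hH1, key _ hH2, hsq]
      have hb_eq : b = b' := by simpa using hcc
      have ha_eq : a = a' := by rw [hcc] at he'; exact mul_right_cancel he'
      simp [ha_eq, hb_eq]
    have h := Nat.card_le_card_of_injective f hf
    rwa [Nat.card_prod, ← pow_two] at h
  · rw [eq_bot_iff]
    intro v hv
    -- `v * x v x` is inverted by `x`, and `y` carries it to a fixed point
    have hxinv : ∀ w ∈ H, x * w * x = w⁻¹ → w = 1 := by
      intro w hw hi
      have hfix : x * (y * w * y) * x = y * w * y := by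
        rw [hswap, hi, hz _ (hy _ (inv_mem hw))]
        simp [mul_inv_rev, inv_eq_of_mul_eq_one_right hy2, mul_assoc]
      have : y * w * y ∈ L := ⟨hy _ hw, hmem.2 hfix⟩
      rw [hbot, Subgroup.mem_bot] at this
      calc w = (y * y) * w * (y * y) := by rw [hy2, one_mul, mul_one]
        _ = y * (y * w * y) * y := by group
        _ = 1 := by rw [this, mul_one, hy2]
    have h1 : x * v⁻¹ * x * v = 1 := by
      refine hxinv _ (mul_mem (hx _ (inv_mem hv)) hv) ?_
      simp only [mul_inv_rev, inv_inv, inv_eq_of_mul_eq_one_right hx2, mul_assoc]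
      rw [← mul_assoc x x, hx2, one_mul]
    have h2 : x * v * x = v := by
      have := eq_inv_of_mul_eq_one_left h1
      calc x * v * x = (x * v⁻¹ * x)⁻¹ := by simp [mul_inv_rev, inv_eq_of_mul_eq_one_right hx2, mul_assoc]
        _ = v := by rw [this, inv_inv]
    have : v ∈ L := ⟨hv, hmem.2 h2⟩
    rwa [hbot] at this

namespace Pairs

variable {x : Fin 10 → K} {z : K} (P : Pairs x z)

/-- Intersect with the centralizers of the first halves of the pairs of a list. -/
def fix (x : Fin 10 → K) : List (Fin 5) → Subgroup K → Subgroup K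
  | [], H => H
  | i :: l, H => fix x l (H ⊓ Subgroup.centralizer {x ⟨2 * i, by omega⟩})

include P

theorem odd_bound : ∀ (l : List (Fin 5)) (H : Subgroup K), l.Nodup → Odd (Nat.card H) →
    (∀ i ∈ l, ∀ v ∈ H, x ⟨2 * i, by omega⟩ * v * x ⟨2 * i, by omega⟩ ∈ H ∧
      x ⟨2 * i + 1, by omega⟩ * v * x ⟨2 * i + 1, by omega⟩ ∈ H) →
    (∀ v ∈ H, z * v * z⁻¹ = v⁻¹) → H = ⊥ ∨ 3 ^ (2 ^ l.length) ≤ Nat.card H
  | [], H, _, hodd, _, _ => by
    by_cases h : H = ⊥
    · exact Or.inl h
    · right
      have h1 : Nat.card H ≠ 1 := fun h1 => h (Subgroup.card_eq_one.1 h1)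
      obtain ⟨m, hm⟩ := hodd
      simp only [List.length_nil, pow_zero, pow_one]
      omega
  | i :: l, H, hnd, hodd, hn, hz => by
    obtain ⟨hil, hl⟩ := List.nodup_cons.1 hnd
    set a := x ⟨2 * i, by omega⟩ with ha
    set b := x ⟨2 * i + 1, by omega⟩ with hb
    have hab : a * b * a * b = z := by
      have h := P.pair ⟨2 * i, by omega⟩ ⟨2 * i + 1, by omega⟩
      rwa [if_pos (by show 2 * (i : ℕ) + 1 = partner (2 * i); unfold partner; split <;> omega)] at h
    obtain ⟨hsq, hbot⟩ := step hodd (P.sq _) (P.sq _) hab (fun v hv => (hn i List.mem_cons_self v hv).1)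
      (fun v hv => (hn i List.mem_cons_self v hv).2) hz
    set L := H ⊓ Subgroup.centralizer ({a} : Set K)
    have hcomm : ∀ k : Fin 10, (k : ℕ) ≠ 2 * i + 1 → Commute (x k) a := by
      intro k hk
      have h := P.pair ⟨2 * i, by omega⟩ k
      rw [if_neg (by show ¬ (k : ℕ) = partner (2 * i); unfold partner; split <;> omega)] at h
      have h1 : a * x k = (a * x k)⁻¹ := eq_inv_of_mul_eq_one_left (by rwa [mul_assoc] at h)
      rw [mul_inv_rev, inv_eq_of_mul_eq_one_right (P.sq _), inv_eq_of_mul_eq_one_right (P.sq _)] at h1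
      exact h1.symm
    have hpres : ∀ k : Fin 10, (k : ℕ) ≠ 2 * i + 1 → (∀ v ∈ H, x k * v * x k ∈ H) →
        ∀ v ∈ L, x k * v * x k ∈ L := by
      intro k hk hv' v hv
      refine ⟨hv' v hv.1, Subgroup.mem_centralizer_singleton_iff.2 ?_⟩
      exact (((hcomm k hk).mul_left (show Commute v a from Subgroup.mem_centralizer_singleton_iff.1 hv.2)).mul_left
        (hcomm k hk)).eq
    have hLodd : Odd (Nat.card L) := Odd.of_dvd_nat hodd (Subgroup.card_dvd_of_le inf_le_left)
    rcases odd_bound l L hl hLodd (fun j hj v hv => by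
        have hne : (j : ℕ) ≠ i := fun h => hil (Fin.ext h ▸ hj)
        exact ⟨hpres _ (by show 2 * (j : ℕ) ≠ _; omega) (fun w hw => (hn j (List.mem_cons_of_mem i hj) w hw).1) v hv,
          hpres _ (by show 2 * (j : ℕ) + 1 ≠ _; omega)
            (fun w hw => (hn j (List.mem_cons_of_mem i hj) w hw).2) v hv⟩)
      (fun v hv => hz v hv.1) with h | h
    · exact Or.inl (hbot h)
    · right
      refine le_trans ?_ hsq
      rw [List.length_cons, pow_succ, pow_mul]
      exact Nat.pow_le_pow_left h 2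

/-- An odd-order subgroup of small order normalized by the pairs and inverted by `z` is trivial. -/
theorem odd_eq_bot (hbig : Nat.card K < 3 ^ 32) (H : Subgroup K) (hodd : Odd (Nat.card H))
    (hn : ∀ k, ∀ v ∈ H, x k * v * x k ∈ H) (hz : ∀ v ∈ H, z * v * z⁻¹ = v⁻¹) : H = ⊥ := by
  rcases P.odd_bound (List.finRange 5) H (List.nodup_finRange 5) hodd
    (fun i _ v hv => ⟨hn _ v hv, hn _ v hv⟩) hz with h | h
  · exact h
  · exfalso
    have h1 := Nat.le_of_dvd Nat.card_pos (Subgroup.card_subgroup_dvd_card H)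
    rw [List.length_finRange] at h
    norm_num at h hbig
    omega

end Pairs

end CfsgLib.Fi22PairAut
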